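import Groth.Agent.Props58.LocFree.Basis
import Groth.Agent.DCK91.PullStalk
import Groth.Agent.QCPull72.Unit

/-!
The unit `M ⟶ f_* f^* M` is an isomorphism for finite locally free `M` when `O_S = f_* O_X`.
-/

set_option autoImplicit false
set_option backward.isDefEq.respectTransparency false
set_option backward.isDefEq.respectTransparency.types false
set_option linter.style.haveILetI false

noncomputable section

universe u

open CategoryTheory Limits AlgebraicGeometry TopologicalSpace Opposite
open Groth.Agent.QC70 Groth.Agent.QCPull72 Groth.Agent.DCK91 Groth.Agent.Props58.LocFree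

namespace Groth.Agent.Desc59.Pic.VectPush

variable {X S : Scheme.{u}} (f : X ⟶ S) {M : S.Modules} {U : S.Opens} {n : ℕ} {s : Fin n → Γ(M, U)}

theorem stalkBasis_pullback (hs : StalkBasis s) :
    StalkBasis (fun i => unitSec f M (le_refl (f ⁻¹ᵁ U)) (s i)) := by
  intro x hx
  letI := (f.stalkMap x).hom.toAlgebra
  letI := Module.compHom (((Scheme.Modules.pullback f).obj M).presheaf.stalk x) (f.stalkMap x).hom
  haveI : IsScalarTower (S.presheaf.stalk (f x)) (X.presheaf.stalk x)
      (((Scheme.Modules.pullback f).obj M).presheaf.stalk x) :=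
    IsScalarTower.of_algebraMap_smul fun r e => rfl
  classical
  let b : Module.Basis (Fin n) (S.presheaf.stalk (f x)) (M.presheaf.stalk (f x)) :=
    Module.Basis.ofEquivFun (hs.stalkEquiv (f x) hx).symm
  let b' := (isBaseChange_pullη f M x).basis b
  have hb : ∀ i, b' i = germM _ (f ⁻¹ᵁ U) x hx (unitSec f M (le_refl (f ⁻¹ᵁ U)) (s i)) := fun i => by
    rw [IsBaseChange.basis_apply, Module.Basis.coe_ofEquivFun, LinearEquiv.symm_symm]
    show pullη f M x (Fintype.linearCombination (S.presheaf.stalk (f x)) (fun i => germM M U (f x) hx (s i)) (Pi.single i 1)) = _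
    rw [Fintype.linearCombination_apply_single, one_smul, pullη_germ]
    rw [unitSec, res_self]
    rfl
  have e : germComb (fun i => unitSec f M (le_refl (f ⁻¹ᵁ U)) (s i)) x hx = b'.equivFun.symm := by
    funext c
    rw [Module.Basis.equivFun_symm_apply]
    simp only [hb]
    rfl
  rw [e]
  exact b'.equivFun.symm.bijective

theorem unit_app_bijective (hf : ∀ V : S.Opens, Function.Bijective (f.app V)) (hs : StalkBasis s) {V : S.Opens}
    (hV : V ≤ U) : Function.Bijective (((Scheme.Modules.pullbackPushforwardAdjunction f).unit.app M).app V) := by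
  have h1 := hs.bijective hV
  have h2 := (stalkBasis_pullback f hs).bijective (f.preimage_mono hV)
  refine (Function.Bijective.of_comp_iff _ h1).1 ?_
  have e : (((Scheme.Modules.pullbackPushforwardAdjunction f).unit.app M).app V : _ → _) ∘
      (fun a : Fin n → Γ(S, V) => ∑ i, a i • res M hV (s i)) =
      (fun a : Fin n → Γ(X, f ⁻¹ᵁ V) => ∑ i, a i • res ((Scheme.Modules.pullback f).obj M) (f.preimage_mono hV)
        (unitSec f M (le_refl (f ⁻¹ᵁ U)) (s i))) ∘ (fun a i => f.app V (a i)) := by
    funext a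
    rw [Function.comp_apply, map_sum]
    refine Finset.sum_congr rfl fun i _ => ?_
    rw [Scheme.Modules.Hom.app_smul]
    show f.app V (a i) • (show Γ((Scheme.Modules.pullback f).obj M, f ⁻¹ᵁ V) from _) = f.app V (a i) • _
    congr 1
    refine (app_res ((Scheme.Modules.pullbackPushforwardAdjunction f).unit.app M) hV (s i)).trans ?_
    rw [unitSec, res_res]
    rfl
  rw [e]
  exact h2.comp ((hf V).comp_left (α := Fin n))

theorem isIso_unit (hf : ∀ V : S.Opens, Function.Bijective (f.app V)) (hM : FlatMod.IsFinLocFree M) :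
    IsIso ((Scheme.Modules.pullbackPushforwardAdjunction f).unit.app M) := by
  refine isIso_of_bijective_stalkMapM _ fun y => ?_
  obtain ⟨U, n, s, hyU, hs⟩ := isFinLocFree_iff.mp hM y
  constructor
  · intro z z' h
    obtain ⟨V, hV, t, rfl⟩ := germM_exist z
    obtain ⟨V', hV', t', rfl⟩ := germM_exist z'
    rw [stalkMapM_germ, stalkMapM_germ] at h
    obtain ⟨W, hW, i₁, i₂, e⟩ := TopCat.Presheaf.germ_eq _ _ hV hV' _ _ h
    have e' : res _ (inf_le_left.trans i₁.le : W ⊓ U ≤ V)
        (((Scheme.Modules.pullbackPushforwardAdjunction f).unit.app M).app V t) =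
        res _ (inf_le_left.trans i₂.le : W ⊓ U ≤ V')
        (((Scheme.Modules.pullbackPushforwardAdjunction f).unit.app M).app V' t') := by
      rw [← res_res i₁.le (inf_le_left : W ⊓ U ≤ W), ← res_res i₂.le (inf_le_left : W ⊓ U ≤ W)]
      exact congrArg _ e
    rw [← app_res, ← app_res] at e'
    rw [← germM_res (inf_le_left.trans i₁.le : W ⊓ U ≤ V) ⟨hW, hyU⟩,
      ← germM_res (inf_le_left.trans i₂.le : W ⊓ U ≤ V') ⟨hW, hyU⟩, (unit_app_bijective f hf hs inf_le_right).1 e']
  · intro z
    obtain ⟨V, hV, t, rfl⟩ := germM_exist z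
    obtain ⟨w, hw⟩ := (unit_app_bijective f hf hs (inf_le_right : V ⊓ U ≤ U)).2 (res _ inf_le_left t)
    have hy : y ∈ V ⊓ U := ⟨hV, hyU⟩
    refine ⟨germM M (V ⊓ U) y hy w, ?_⟩
    refine (stalkMapM_germ _ hy w).trans ((congrArg (germM _ (V ⊓ U) y hy) hw).trans ?_)
    exact germM_res _ hy t

end Groth.Agent.Desc59.Pic.VectPush
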