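import Groth.Agent.Amp73.Avoid
import Groth.Agent.Mero90.Triv

/-!
An invertible module on a scheme with an ample module is trivial near finitely many points.
-/

universe u

open CategoryTheory CategoryTheory.Limits AlgebraicGeometry Opposite TopologicalSpace

noncomputable section

namespace Groth.Agent.Desc59.Pic

open Var76.LineBundle Var76.ZeroScheme Mero90

variable {X : Scheme.{u}} {L : X.Modules}

/-- An invertible module has a frame on an open around finitely many points of an affine open. -/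
theorem exists_frame_finite (hL : PicF.IsInvertible L) {W : X.Opens} (hW : IsAffineOpen W) (P : Finset W) :
    ∃ (V : X.Opens) (_ : ∀ x ∈ P, x.1 ∈ V) (e : Γ(L, V)), IsFrame L V e := by
  obtain ⟨m, hm⟩ := exists_gen_finite hL hW P
  have key : ∀ x : P, ∃ (B : X.Opens) (hB : B ≤ W), x.1.1 ∈ B ∧ IsFrame L B (res L hB m) := by
    intro x
    obtain ⟨U, hxU, e, he⟩ := exists_frame' hL x.1.1
    obtain ⟨c, hc⟩ := (he (U ⊓ W) inf_le_left).2 (res L inf_le_right m)
    dsimp only at hc
    have hxO : x.1.1 ∈ U ⊓ W := ⟨hxU, x.1.2⟩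
    have h1 := congrArg (L.presheaf.germ (U ⊓ W) x.1.1 hxO) hc
    rw [Mero.germ_smul, TopCat.Presheaf.germ_res_apply, TopCat.Presheaf.germ_res_apply] at h1
    obtain ⟨p, hp⟩ := (hm x.1 x.2).2 (L.presheaf.germ U x.1.1 hxU e)
    dsimp only at hp
    rw [← h1, smul_smul] at hp
    have hu : IsUnit (X.presheaf.germ (U ⊓ W) x.1.1 hxO c) :=
      IsUnit.of_mul_eq_one p ((isGen_germ he ⟨x.1.1, hxU⟩).1 (by
        dsimp only; rw [one_smul, mul_comm]; exact hp))
    refine ⟨X.basicOpen c, (X.basicOpen_le c).trans inf_le_right, (X.mem_basicOpen c _ hxO).2 hu, ?_⟩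
    have heq : res L ((X.basicOpen_le c).trans inf_le_right) m =
        fres (X.basicOpen_le c) c • res L ((X.basicOpen_le c).trans inf_le_left) e := by
      have h2 := congrArg (res L (X.basicOpen_le c)) hc
      rw [res_smul, res_res, res_res] at h2
      exact h2.symm
    rw [heq, Amp73.isFrame_smul_iff (he.res _)]
    exact AlgebraicGeometry.RingedSpace.isUnit_res_basicOpen _ c
  choose B hB hxB hf using key
  refine ⟨⨆ x, B x, fun x hx => Opens.mem_iSup.2 ⟨⟨x, hx⟩, hxB ⟨x, hx⟩⟩, res L (iSup_le hB) m, ?_⟩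
  refine Amp73.isFrame_of_locally _ fun y hy => ?_
  obtain ⟨x, hx⟩ := Opens.mem_iSup.1 hy
  exact ⟨B x, le_iSup B x, hx, by rw [res_res]; exact hf x⟩

theorem exists_trivializing_open {M : X.Modules} (hM : CohB1.IsAmple M) (hL : PicF.IsInvertible L)
    {Z : Set X} (hZ : Z.Finite) :
    ∃ U : X.Opens, Z ⊆ U ∧ Nonempty (L.restrict U.ι ≅ Coh.structureModule (U : Scheme.{u})) := by
  classical
  obtain ⟨G, -, hZG, -, hG⟩ := Amp73.exists_affine_genSet_of_finite hM hZ
    (U := ⊤) (fun _ _ => trivial)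
  have : (Set.range fun z : Z => (⟨z.1, hZG z.2⟩ : G)).Finite := by
    have := hZ.to_subtype; exact Set.finite_range _
  obtain ⟨V, hV, e, he⟩ := exists_frame_finite hL hG this.toFinset
  exact ⟨V, fun z hz => hV ⟨z, hZG hz⟩ (this.mem_toFinset.2 ⟨⟨z, hz⟩, rfl⟩),
    EGA73.nonempty_restrict_iso_unit _ V e he⟩

end Groth.Agent.Desc59.Pic
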