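import Groth.Agent.Curves2.Glue.Discrete

/-!
Invertible modules from unit cocycles on an arbitrary open cover.
-/

set_option autoImplicit false
set_option linter.unusedSectionVars false
set_option backward.isDefEq.respectTransparency false

noncomputable section

universe u

open CategoryTheory Limits AlgebraicGeometry Opposite TopologicalSpace
open Groth.Agent.Var76.LineBundle

namespace Groth.Agent.Desc59.Pic.Cocycle

open Curves2.Glue

variable {X : Scheme.{u}} {ι : Type u} (U : ι → X.Opens) (η : ∀ i j : ι, (Γ(X, U i ⊓ U j))ˣ)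

local notation "O" => Coh.structureModule X

/-- functions restricted -/
abbrev rf {A B : X.Opens} (h : B ≤ A) (a : Γ(X, A)) : Γ(X, B) := X.presheaf.map (homOfLE h).op a

/-- the relation between the coordinates -/
def Cond (V : X.Opens) (x : Γ(amb U O, V)) : Prop :=
  ∀ i j (T : X.Opens) (hV : T ≤ V) (hi : T ≤ U i) (hj : T ≤ U j),
    rf (le_inf hV hj) (coord U O j V x) = rf (le_inf hV hi) (coord U O i V x) * rf (le_inf hi hj) (η i j : Γ(X, U i ⊓ U j))

/-- the glued module -/
def glue : QC70.LocalSubmod (amb U O) where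
  obj V :=
    { carrier := {x | (fstP U O).app V x = 0 ∧ Cond U η V x}
      zero_mem' := ⟨map_zero _, fun i j T hV hi hj => by
        rw [coord_zero, coord_zero, rf, rf, map_zero, map_zero, zero_mul]⟩
      add_mem' := fun {x y} hx hy => ⟨by rw [map_add, hx.1, hy.1, add_zero], fun i j T hV hi hj => by
        rw [coord_add, coord_add, rf, rf, map_add, map_add]
        exact (congrArg₂ (· + ·) (hx.2 i j T hV hi hj) (hy.2 i j T hV hi hj)).trans (add_mul _ _ _).symm⟩
      smul_mem' := fun r x hx => ⟨by rw [Scheme.Modules.Hom.app_smul, hx.1, smul_zero], fun i j T hV hi hj => by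
        rw [coord_smul, coord_smul, rf, rf, map_mul, map_mul, map_map_fn, map_map_fn]
        exact (congrArg (_ * ·) (hx.2 i j T hV hi hj)).trans (mul_assoc _ _ _).symm⟩ }
  res_mem {V V'} h x hx := ⟨by
      show (fstP U O).app V' (res (amb U O) h x) = 0
      rw [Mero90.app_res, hx.1]
      exact map_zero _, fun i j T hV hi hj => by
      show rf (le_inf hV hj) (coord U O j V' (res (amb U O) h x)) =
        rf (le_inf hV hi) (coord U O i V' (res (amb U O) h x)) * _
      rw [coord_res, coord_res, rf, rf, map_map_fn, map_map_fn]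
      exact hx.2 i j T (hV.trans h) hi hj⟩
  of_locally {V} x hx := by
    constructor
    · refine Var76.ZeroScheme.eq_of_locally O _ _ fun y hy => ?_
      obtain ⟨W, hW, hyW, hm⟩ := hx y hy
      refine ⟨W, hW, hyW, ?_⟩
      have h1 : (fstP U O).app W (res (amb U O) hW x) = 0 := hm.1
      rw [Mero90.app_res] at h1
      exact h1.trans (map_zero _).symm
    · intro i j T hV hi hj
      refine Var76.ZeroScheme.eq_of_locally O (U := T) _ _ fun y hy => ?_
      obtain ⟨W, hW, hyW, hm⟩ := hx y (hV hy)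
      refine ⟨T ⊓ W, inf_le_left, ⟨hy, hyW⟩, ?_⟩
      have h1 := hm.2 i j (T ⊓ W) inf_le_right (inf_le_left.trans hi) (inf_le_left.trans hj)
      change rf _ (coord U O j W (res (amb U O) hW x)) = rf _ (coord U O i W (res (amb U O) hW x)) * _ at h1
      rw [coord_res, coord_res] at h1
      show rf (inf_le_left : T ⊓ W ≤ T) _ = rf (inf_le_left : T ⊓ W ≤ T) _
      simp only [rf, map_mul, map_map_fn] at h1 ⊢
      exact h1

theorem exists_invertible (hU : iSup U = ⊤)
    (hη : ∀ i j k : ι,
      rf (inf_le_inf_right (U k) inf_le_left : U i ⊓ U j ⊓ U k ≤ U i ⊓ U k) (η i k : Γ(X, U i ⊓ U k)) =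
        rf (inf_le_left : U i ⊓ U j ⊓ U k ≤ U i ⊓ U j) (η i j : Γ(X, U i ⊓ U j)) *
          rf (inf_le_inf_right (U k) inf_le_right : U i ⊓ U j ⊓ U k ≤ U j ⊓ U k) (η j k : Γ(X, U j ⊓ U k))) :
    ∃ (L : X.Modules) (s : ∀ i : ι, Γ(L, U i)),
      PicF.IsInvertible L ∧ (∀ i, IsFrame L (U i) (s i)) ∧
      ∀ i j : ι, res L (inf_le_left : U i ⊓ U j ≤ U i) (s i) =
        (η i j : Γ(X, U i ⊓ U j)) • res L (inf_le_right : U i ⊓ U j ≤ U j) (s j) := by
  have hc : ∀ i j k (T : X.Opens) (hi : T ≤ U i) (hj : T ≤ U j) (hk : T ≤ U k),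
      rf (le_inf hi hk) (η i k : Γ(X, U i ⊓ U k)) =
        rf (le_inf hi hj) (η i j : Γ(X, U i ⊓ U j)) * rf (le_inf hj hk) (η j k : Γ(X, U j ⊓ U k)) := by
    intro i j k T hi hj hk
    have := congrArg (rf (le_inf (le_inf hi hj) hk : T ≤ U i ⊓ U j ⊓ U k)) (hη i j k)
    simp only [rf, map_mul, map_map_fn] at this
    exact this
  have hone : ∀ i (T : X.Opens) (hi : T ≤ U i), rf (le_inf hi hi) (η i i : Γ(X, U i ⊓ U i)) = 1 := by
    intro i T hi
    have hu : IsUnit (rf (le_inf hi hi) (η i i : Γ(X, U i ⊓ U i))) := (η i i).isUnit.map _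
    exact (hu.mul_eq_left).mp (hc i i i T hi hi hi).symm
  have hex : ∀ i, ∃ x : Γ(amb U O, U i), x ∈ (glue U η).obj (U i) ∧ ∀ k, coord U O k (U i) x = (η i k : Γ(X, U i ⊓ U k)) := by
    intro i
    obtain ⟨x, hx1, hx2⟩ := exists_amb U O (U i) 0 (fun k => (η i k : Γ(X, U i ⊓ U k)))
    refine ⟨x, ⟨hx1, fun a b T hV ha hb => ?_⟩, hx2⟩
    rw [hx2, hx2]
    exact hc i a b T hV ha hb
  choose x hx hxc using hex
  let g : ∀ i, Γ((glue U η).mod, U i) := fun i => (⟨x i, hx i⟩ : (glue U η).obj (U i))
  have hfr : ∀ i, IsFrame (glue U η).mod (U i) (g i) := by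
    intro i V hV
    constructor
    · intro a b hab
      have h1 : a • res (amb U O) hV (x i) = b • res (amb U O) hV (x i) := congrArg Subtype.val hab
      have h2 := congrArg (coord U O i V) h1
      rw [coord_smul, coord_smul, coord_res, hxc] at h2
      have h3 : rf (inf_le_inf_right (U i) hV) (η i i : Γ(X, U i ⊓ U i)) = 1 := by
        rw [← hone i (V ⊓ U i) inf_le_right]
      simp only [rf] at h3
      rw [h3, mul_one, mul_one] at h2
      exact (ParaF26.bijective_map_of_eq (inf_le_left : V ⊓ U i ≤ V) (le_inf le_rfl hV)).1 h2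
    · intro t
      let y : Γ(amb U O, V) := (show (glue U η).obj V from t).1
      have hy : (fstP U O).app V y = 0 ∧ Cond U η V y := (show (glue U η).obj V from t).2
      obtain ⟨a, ha⟩ := (ParaF26.bijective_map_of_eq (inf_le_left : V ⊓ U i ≤ V) (le_inf le_rfl hV)).2 (coord U O i V y)
      refine ⟨a, Subtype.ext ?_⟩
      show a • res (amb U O) hV (x i) = y
      refine ext_amb U O ?_ fun k => ?_
      · rw [Scheme.Modules.Hom.app_smul, Mero90.app_res, (hx i).1, hy.1]
        exact (congrArg (a • ·) (map_zero _)).trans (smul_zero a)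
      · rw [coord_smul, coord_res, hxc]
        have h1 := hy.2 i k (V ⊓ U k) inf_le_left (inf_le_left.trans hV) inf_le_right
        simp only [rf, map_self_fn] at h1
        rw [h1, ← ha, map_map_fn]
  refine ⟨(glue U η).mod, g, Mero90.isInvertible_of_frames fun p => ?_, hfr, fun i j => Subtype.ext ?_⟩
  · obtain ⟨i, hi⟩ := Opens.mem_iSup.mp (hU.ge (show p ∈ (⊤ : X.Opens) from trivial))
    exact ⟨U i, hi, g i, hfr i⟩
  · show res (amb U O) inf_le_left (x i) = (η i j : Γ(X, U i ⊓ U j)) • res (amb U O) inf_le_right (x j)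
    refine ext_amb U O ?_ fun k => ?_
    · rw [Scheme.Modules.Hom.app_smul, Mero90.app_res, Mero90.app_res, (hx i).1, (hx j).1]
      exact (map_zero _).trans ((congrArg _ (map_zero _)).trans (smul_zero _)).symm
    · rw [coord_smul, coord_res, coord_res, hxc, hxc]
      exact hc i j k (U i ⊓ U j ⊓ U k) (inf_le_left.trans inf_le_left) (inf_le_left.trans inf_le_right) inf_le_right

end Groth.Agent.Desc59.Pic.Cocycle
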