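import Groth.Agent.FGA29.IntNumPos
import Groth.Agent.FGA29.IntNumCurves
import Groth.Agent.Cyc90.Dev.ProperField
import Mathlib.RingTheory.Ideal.KrullsHeightTheorem

/-!
A curve through a closed point meeting a given nonempty open subset of an integral proper scheme.
-/

set_option autoImplicit false
set_option backward.isDefEq.respectTransparency.types false
set_option linter.style.haveILetI false

universe u

open CategoryTheory AlgebraicGeometry TopologicalSpace

noncomputable section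

namespace Groth.Agent.Desc59.Pic

/-- In a Noetherian local domain of dimension at least two a nonzero element avoids some nonzero prime. -/
theorem exists_prime_ne_bot_notMem {R : Type u} [CommRing R] [IsDomain R] [IsNoetherianRing R] [IsLocalRing R]
    (hdim : 2 ≤ ringKrullDim R) {b : R} (hb : b ≠ 0) : ∃ p : PrimeSpectrum R, p.asIdeal ≠ ⊥ ∧ b ∉ p.asIdeal := by
  by_contra hcon
  push Not at hcon
  have hfin : (Ideal.span {b}).minimalPrimes.Finite := Ideal.finite_minimalPrimes_of_isNoetherianRing R _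
  let m := IsLocalRing.maximalIdeal R
  have hm : ∀ q ∈ (Ideal.span {b}).minimalPrimes, ¬ m ≤ q := by
    intro q hq hmq
    haveI := hq.1.1
    have h1 := Ideal.height_le_one_of_isPrincipal_of_mem_minimalPrimes _ q hq
    have h2 : m.height ≤ 1 := (Ideal.height_mono hmq).trans h1
    have h3 := IsLocalRing.maximalIdeal_height_eq_ringKrullDim (R := R)
    rw [← h3] at hdim
    have h4 : ((2 : ℕ∞) : WithBot ℕ∞) ≤ (m.height : WithBot ℕ∞) := hdim
    exact absurd ((WithBot.coe_le_coe.1 h4).trans h2) (by decide)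
  obtain ⟨c, hcm, hc⟩ : ∃ c ∈ m, ∀ q ∈ (Ideal.span {b}).minimalPrimes, c ∉ q := by
    by_contra! h
    obtain ⟨q, hq, hle⟩ := (Ideal.subset_union_prime_finite hfin ⊥ ⊥ fun q hq _ _ => hq.1.1).1
      (show (m : Set R) ⊆ ⋃ q ∈ (Ideal.span {b}).minimalPrimes, (q : Set R) from fun x hx => by
        obtain ⟨q, hq, hxq⟩ := h x hx
        exact Set.mem_biUnion hq hxq)
    exact hm q hq hle
  have hc0 : c ≠ 0 := by
    rintro rfl
    obtain ⟨q, hq, -⟩ := Ideal.exists_minimalPrimes_le (I := Ideal.span {b}) (J := m)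
      (by
        rw [Ideal.span_le, Set.singleton_subset_iff]
        exact hcon ⟨m, inferInstance⟩ (fun h0 => by
          have h5 : ringKrullDim R = 0 := ringKrullDim_eq_zero_of_isField (IsLocalRing.isField_iff_maximalIdeal_eq.mpr h0)
          rw [h5] at hdim
          exact absurd hdim (by decide)))
    exact hc q hq q.zero_mem
  obtain ⟨p, hp, -⟩ := Ideal.exists_minimalPrimes_le (I := Ideal.span {c}) (J := m)
    (by rw [Ideal.span_le, Set.singleton_subset_iff]; exact hcm)
  haveI := hp.1.1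
  have hcp : c ∈ p := hp.1.2 (Ideal.subset_span rfl)
  have hp0 : p ≠ ⊥ := fun h => hc0 (Ideal.mem_bot.1 (h ▸ hcp))
  have hbp : b ∈ p := hcon ⟨p, hp.1.1⟩ hp0
  obtain ⟨q, hq, hqp⟩ := Ideal.exists_minimalPrimes_le (I := Ideal.span {b}) (J := p)
    (by rw [Ideal.span_le, Set.singleton_subset_iff]; exact hbp)
  refine hc q hq ?_
  haveI := hq.1.1
  suffices p = q by rwa [← this]
  by_contra hne
  have h1 := Ideal.height_le_one_of_isPrincipal_of_mem_minimalPrimes _ p hp
  have hq0 : q ≠ ⊥ := fun h => hb (Ideal.mem_bot.1 (h ▸ hq.1.2 (Ideal.subset_span rfl)))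
  have h2 : q.height < p.height := Ideal.height_strict_mono_of_isPrime (lt_of_le_of_ne hqp (Ne.symm hne))
  have h3 : (⊥ : Ideal R).height < q.height := Ideal.height_strict_mono_of_isPrime (bot_lt_iff_ne_bot.2 hq0)
  have h4 := (ENat.add_one_le_iff (ne_top_of_lt h3)).2 h3
  have h5 := (ENat.add_one_le_iff (ne_top_of_lt h2)).2 h2
  have h6 : (1 : ℕ∞) + 1 ≤ 1 := ((add_le_add (le_trans (le_add_self) h4) le_rfl).trans h5).trans h1
  exact absurd h6 (by decide)

variable (k : Type u) [Field k] {X : Scheme.{u}} [X.Over (Spec (CommRingCat.of k))]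
  [IsProper (X ↘ Spec (CommRingCat.of k))]

include k in
/-- A one-dimensional point through a closed point inside a nonempty open. -/
theorem exists_curve_point [IsIntegral X] (U : X.Opens) (hU : (U : Set X).Nonempty) {x : X}
    (hx : IsClosed ({x} : Set X)) (hxU : x ∉ U) :
    ∃ z : X, z ⤳ x ∧ z ∈ U ∧ topologicalKrullDim (closure ({z} : Set X)) = 1 := by
  let f := X ↘ Spec (CommRingCat.of k)
  let δ : X → ℤ := fun x => (WC97.tdegN f x : ℤ)
  have hδ : Cyc.DeltaCompat f δ (fun _ => 0) := FGA29.deltaCompat_tdegN k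
  haveI := Crv77.isNoetherian_of_proper k X
  have hη : genericPoint X ⤳ x := genericPoint_specializes x
  have hηU : genericPoint X ∈ U := by
    obtain ⟨y, hy⟩ := hU
    exact (genericPoint_specializes y).mem_open U.2 hy
  obtain ⟨n, ⟨z, hzx, hzU, rfl⟩, hmin⟩ := Int.exists_least_of_bdd
    (P := fun n => ∃ z, z ⤳ x ∧ z ∈ U ∧ δ z = n)
    ⟨0, fun m ⟨y, _, _, e⟩ => e ▸ Int.natCast_nonneg _⟩ ⟨_, genericPoint X, hη, hηU, rfl⟩
  refine ⟨z, hzx, hzU, ?_⟩
  have hδx : δ x = 0 := Cyc90.Dev.delta_eq_zero_of_isClosed hδ hx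
  obtain ⟨n, hn, hsub⟩ := Cyc90.delta_sub f (fun _ => 0) (Cyc90.isSetup_spec_field k) δ hδ hzx
  have hne : z ≠ x := fun h => hxU (h ▸ hzU)
  suffices h1 : δ z = 1 by
    rw [Cyc90.Dev.dim_closure_eq_delta hδ z, h1]
    rfl
  have hn1 : 1 ≤ n := by
    have := Cyc90.one_le_ringKrullDim_locQuot hzx hne
    rw [hn] at this
    exact_mod_cast this
  by_contra h1
  have hn2 : 2 ≤ n := by omega
  let D := Cyc.LocQuot x z hzx
  haveI : IsLocalRing D := IsLocalRing.of_surjective' _ Ideal.Quotient.mk_surjective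
  haveI : (RingHom.ker (Cyc.specMap x z hzx)).IsPrime := RingHom.ker_isPrime _
  obtain ⟨W, hW, hxW, -⟩ := exists_isAffineOpen_mem_and_subset (show x ∈ (⊤ : X.Opens) from trivial)
  have hzW : z ∈ W := hzx.mem_open W.2 hxW
  obtain ⟨g, hgU, hzg⟩ := hW.exists_basicOpen_le ⟨z, hzU⟩ hzW
  let a := X.presheaf.germ W x hxW g
  have ha : a ∉ RingHom.ker (Cyc.specMap x z hzx) := by
    intro h
    rw [RingHom.mem_ker] at h
    refine (IsLocalRing.residue_ne_zero_iff_isUnit _).2 ((X.mem_basicOpen g z hzW).1 hzg) ?_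
    refine Eq.trans ?_ h
    show X.residue _ _ = X.residue _ (X.presheaf.stalkSpecializes hzx a)
    rw [TopCat.Presheaf.germ_stalkSpecializes_apply]
  obtain ⟨p, hp0, hbp⟩ := exists_prime_ne_bot_notMem (R := D) (by rw [hn]; exact_mod_cast hn2)
    (b := Ideal.Quotient.mk _ a) (fun h => ha (Ideal.Quotient.eq_zero_iff_mem.1 h))
  let q : PrimeSpectrum (X.presheaf.stalk x) := PrimeSpectrum.comap (Ideal.Quotient.mk _) p
  have hle : Cyc90.genPrime hzx ≤ q := by
    rw [← PrimeSpectrum.asIdeal_le_asIdeal, ← Cyc90.ker_specMap hzx]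
    intro t ht
    show Ideal.Quotient.mk _ t ∈ p.asIdeal
    rw [Ideal.Quotient.eq_zero_iff_mem.2 ht]
    exact zero_mem _
  have hwx : Cyc90.ptOf q ⤳ x := Cyc90.fromSpecStalk_specializes q
  have hzw : z ⤳ Cyc90.ptOf q := by
    have := Cyc90.ptOf_specializes_of_le hle
    rwa [Cyc90.ptOf_genPrime] at this
  have hwU : Cyc90.ptOf q ∈ U := by
    refine hgU ((X.mem_basicOpen g _ (hwx.mem_open W.2 hxW)).2 ?_)
    by_contra hnu
    have haq : a ∈ RingHom.ker (Cyc.specMap x (Cyc90.ptOf q) hwx) := by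
      rw [RingHom.mem_ker]
      refine Eq.trans ?_ ((IsLocalRing.residue_eq_zero_iff _).2 hnu)
      show X.residue _ (X.presheaf.stalkSpecializes hwx a) = X.residue _ _
      rw [TopCat.Presheaf.germ_stalkSpecializes_apply]
    rw [Cyc90.ker_specMap, show Cyc90.genPrime hwx = q from Cyc90.genPrime_fromSpecStalk q] at haq
    exact hbp haq
  have hzwne : z ≠ Cyc90.ptOf q := by
    intro h
    have h2 : Cyc90.genPrime hzx = q := by
      have : Cyc90.genPrime hwx = q := Cyc90.genPrime_fromSpecStalk q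
      rw [← this]
      exact (Cyc90.genPrime_eq_iff hzx hwx).2 h
    refine hp0 (eq_bot_iff.2 fun t ht => ?_)
    obtain ⟨t, rfl⟩ := Ideal.Quotient.mk_surjective t
    have : t ∈ (Cyc90.genPrime hzx).asIdeal := by rw [h2]; exact ht
    rw [← Cyc90.ker_specMap hzx] at this
    exact Ideal.mem_bot.2 (Ideal.Quotient.eq_zero_iff_mem.2 this)
  obtain ⟨m, hm, hsub'⟩ := Cyc90.delta_sub f (fun _ => 0) (Cyc90.isSetup_spec_field k) δ hδ hzw
  have hm1 : 1 ≤ m := by
    have := Cyc90.one_le_ringKrullDim_locQuot hzw hzwne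
    rw [hm] at this
    exact_mod_cast this
  have := hmin (δ (Cyc90.ptOf q)) ⟨_, hwx, hwU, rfl⟩
  omega

end Groth.Agent.Desc59.Pic
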