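import Groth.Agent.Desc59.Pic.FibDeg
import Groth.Agent.FGA29.EulerLC
import Groth.Agent.PicLim95.Basic
import Groth.Agent.Cube73.Semicont
import Groth.Agent.RigDesc25.Classes
import Mathlib.AlgebraicGeometry.Morphisms.UniversallyOpen

/-!
The degree function on the relative Picard scheme of a relative curve.
-/

set_option autoImplicit false
set_option backward.isDefEq.respectTransparency.types false
set_option linter.style.haveILetI false

universe u

open CategoryTheory CategoryTheory.Limits AlgebraicGeometry TopologicalSpace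
open scoped Groth.Agent.FGA29

noncomputable section

namespace Groth.Agent.Desc59.Pic

variable {C S : Scheme.{u}} (f : C ⟶ S)

/-- The degree on the fibre at a point. -/
def fibDeg (T : Over S) (L : (PicF.XT f T).Modules) (t : T.left) : ℤ :=
  FGA.eulerCharLE (T.left.residueField t) (FGA.fibreAt f T t).left (FGA.restrFibre f T t L) 1 -
    FGA.eulerCharLE (T.left.residueField t) (FGA.fibreAt f T t).left
      (Coh.structureModule (FGA.fibreAt f T t).left) 1

/-- Euler characteristics of fibres of a family pulled back along a base change. -/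
theorem fiberEuler_baseChange {W W' T T' : Scheme.{u}} (q : W ⟶ T) [IsProper q] (q' : W' ⟶ T') (a : W' ⟶ W)
    (b : T' ⟶ T) (H : IsPullback a q' q b) (t' : T') {F : W.Modules} (hF : PicF.IsInvertible F) :
    @Curv2.euler ↥(T'.residueField t') _ (q'.fiber t') ⟨q'.fiberToSpecResidueField t'⟩
        ((Scheme.Modules.pullback (q'.fiberι t')).obj ((Scheme.Modules.pullback a).obj F)) =
      @Curv2.euler ↥(T.residueField (b t')) _ (q.fiber (b t')) ⟨q.fiberToSpecResidueField (b t')⟩
        ((Scheme.Modules.pullback (q.fiberι (b t'))).obj F) := by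
  letI : (q.fiber (b t')).Over (Spec (CommRingCat.of (T.residueField (b t') : Type u))) :=
    ⟨q.fiberToSpecResidueField (b t')⟩
  letI : (q'.fiber t').Over (Spec (CommRingCat.of (T'.residueField t' : Type u))) := ⟨q'.fiberToSpecResidueField t'⟩
  haveI : IsProper (q.fiber (b t') ↘ Spec (CommRingCat.of (T.residueField (b t') : Type u))) :=
    MorphismProperty.pullback_snd (P := @IsProper) _ _ inferInstance
  letI : Algebra (T.residueField (b t')) (T'.residueField t') := (b.residueFieldMap t').hom.toAlgebra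
  let e : q'.fiber t' ⟶ q.fiber (b t') := pullback.map q' (T'.fromSpecResidueField t') q
    (T.fromSpecResidueField (b t')) a (Spec.map (b.residueFieldMap t')) b H.w.symm (by simp)
  have he : e ≫ q.fiberι (b t') = q'.fiberι t' ≫ a := pullback.lift_fst _ _ _
  have hsq : IsPullback e (q'.fiberToSpecResidueField t') (q.fiberToSpecResidueField (b t'))
      (Spec.map (b.residueFieldMap t')) := isPullback_fiberToSpecResidueField_of_isPullback H t'
  have hF' := Amp73.isInvertible_pullback (q.fiberι (b t')) hF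
  rw [← euler_sq (k := (T.residueField (b t') : Type u)) (K := (T'.residueField t' : Type u)) e hsq
    (Amp73.isCoh_of_isInvertible hF')]
  exact Crv77.euler_congr (((Scheme.Modules.pullbackComp (q'.fiberι t') a).app F) ≪≫
    (Scheme.Modules.pullbackCongr he.symm).app F ≪≫ ((Scheme.Modules.pullbackComp e _).app F).symm)

variable [IsProper f] (hdim : ∀ s : S, topologicalKrullDim ↥(f.fiber s) = 1)
include hdim

theorem fiber_eulerLE_eq (T : Over S) (t : T.left) {A : ((PicF.XTproj f T).fiber t).Modules}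
    (hA : Coh.IsCoh A) :
    @FGA.eulerCharLE ↥(T.left.residueField t) _ _ ⟨(PicF.XTproj f T).fiberToSpecResidueField t⟩ A 1 =
      @Curv2.euler ↥(T.left.residueField t) _ _ ⟨(PicF.XTproj f T).fiberToSpecResidueField t⟩ A := by
  letI : ((PicF.XTproj f T).fiber t).Over (Spec (CommRingCat.of (T.left.residueField t : Type u))) :=
    ⟨(PicF.XTproj f T).fiberToSpecResidueField t⟩
  haveI : IsProper (PicF.XTproj f T) := inferInstanceAs (IsProper (pullback.snd _ _))
  haveI : IsProper ((PicF.XTproj f T).fiber t ↘ Spec (CommRingCat.of (T.left.residueField t : Type u))) :=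
    MorphismProperty.pullback_snd (P := @IsProper) _ _ inferInstance
  have hd : topologicalKrullDim ↥((PicF.XTproj f T).fiber t) ≤ (1 : ℕ) :=
    (dim_fibreAt f hdim T t).le.trans (by exact_mod_cast le_rfl)
  exact FGA29.eulerCharLE_eq_euler (T.left.residueField t : Type u) hd hA

/-- The degree is invariant under base change. -/
theorem fibDeg_pullback {T T' : Over S} (g : T' ⟶ T) {L : (PicF.XT f T).Modules} (hL : PicF.IsInvertible L)
    (t' : T'.left) :
    fibDeg f T' ((Scheme.Modules.pullback (PicF.XTmap f g)).obj L) t' = fibDeg f T L (g.left t') := by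
  haveI : IsProper (PicF.XTproj f T) := inferInstanceAs (IsProper (pullback.snd _ _))
  have hA := RigDesc25.isPullback_XTmap f g
  have hL' := Amp73.isInvertible_pullback (PicF.XTmap f g) hL
  have hO : PicF.IsInvertible (Coh.structureModule (PicF.XT f T)) := EGA73.isInvertible_structureModule
  unfold fibDeg
  refine congrArg₂ (· - ·) ?_ ?_
  · refine (fiber_eulerLE_eq f hdim T' t' (Amp73.isCoh_of_isInvertible (Amp73.isInvertible_pullback _ hL'))).trans
      ((fiberEuler_baseChange _ _ _ _ hA t' hL).trans ?_)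
    exact (fiber_eulerLE_eq f hdim T (g.left t') (Amp73.isCoh_of_isInvertible (Amp73.isInvertible_pullback _ hL))).symm
  · refine (fiber_eulerLE_eq f hdim T' t' Crv77.isCoh_structureModule).trans ?_
    refine Eq.trans ?_ (((fiberEuler_baseChange _ _ _ _ hA t' hO).trans ?_))
    · exact @Crv77.euler_congr _ _ _ ⟨_⟩ _ _ ((PicLoc.pullbackStructureIso _).symm ≪≫
        (Scheme.Modules.pullback _).mapIso (PicLoc.pullbackStructureIso _).symm)
    · refine Eq.trans ?_ (fiber_eulerLE_eq f hdim T (g.left t') Crv77.isCoh_structureModule).symm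
      exact @Crv77.euler_congr _ _ _ ⟨_⟩ _ _ (PicLoc.pullbackStructureIso _)

theorem fibDeg_congr {T : Over S} {L L' : (PicF.XT f T).Modules} (hL : PicF.IsInvertible L)
    (hL' : PicF.IsInvertible L') (h : PicF.cl L = PicF.cl L') (t : T.left) : fibDeg f T L t = fibDeg f T L' t := by
  obtain ⟨i⟩ := FGA29.nonempty_iso_of_cl h
  unfold fibDeg
  refine congrArg (fun x => x - _) ?_
  refine (fiber_eulerLE_eq f hdim T t (Amp73.isCoh_of_isInvertible (Amp73.isInvertible_pullback _ hL))).trans ?_
  refine Eq.trans ?_ (fiber_eulerLE_eq f hdim T t (Amp73.isCoh_of_isInvertible (Amp73.isInvertible_pullback _ hL'))).symm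
  exact @Crv77.euler_congr _ _ _ ⟨_⟩ _ _ ((Scheme.Modules.pullback _).mapIso i)

/-- The degree is locally constant. -/
theorem isLocallyConstant_fibDeg [Flat f] [LocallyOfFinitePresentation f] (T : Over S)
    {L : (PicF.XT f T).Modules} (hL : PicF.IsInvertible L) : IsLocallyConstant (fibDeg f T L) := by
  haveI : IsProper (PicF.XTproj f T) := inferInstanceAs (IsProper (pullback.snd _ _))
  haveI : Flat (PicF.XTproj f T) := inferInstanceAs (Flat (pullback.snd _ _))
  haveI : LocallyOfFinitePresentation (PicF.XTproj f T) :=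
    inferInstanceAs (LocallyOfFinitePresentation (pullback.snd _ _))
  have key : ∀ {A : (PicF.XT f T).Modules}, PicF.IsInvertible A → IsLocallyConstant (fun t : T.left =>
      @FGA.eulerCharLE ↥(T.left.residueField t) _ ((PicF.XTproj f T).fiber t)
        ⟨(PicF.XTproj f T).fiberToSpecResidueField t⟩
        ((Scheme.Modules.pullback ((PicF.XTproj f T).fiberι t)).obj A) 1) := fun {A} hA => by
    haveI := Mero90.isQCoh_of_isInvertible hA
    exact FGA29.EulerLC.isLocallyConstant_eulerCharLE (PicF.XTproj f T) A (PicLim95.isFP_of_isInvertible hA)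
      (Cube73.isFlatOver_of_isInvertible _ hA) 1
      fun t => (dim_fibreAt f hdim T t).le.trans (by exact_mod_cast le_rfl)
  have h1 := (key hL).comp₂ (key (A := Coh.structureModule _) EGA73.isInvertible_structureModule) (· - ·)
  refine (funext fun t => ?_ : fibDeg f T L = _) ▸ h1
  unfold fibDeg
  refine congrArg (fun x => _ - x) ?_
  refine (fiber_eulerLE_eq f hdim T t Crv77.isCoh_structureModule).trans ?_
  refine Eq.trans ?_ (fiber_eulerLE_eq f hdim T t (Amp73.isCoh_of_isInvertible
    (Amp73.isInvertible_pullback _ EGA73.isInvertible_structureModule))).symm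
  exact @Crv77.euler_congr _ _ _ ⟨_⟩ _ _ (PicLoc.pullbackStructureIso _).symm

/-- The degree function on the relative Picard scheme. -/
theorem exists_degree [Flat f] [LocallyOfFinitePresentation f] (P : Over S)
    (φ : ∀ T : Over S, PicF.Cl (PicF.XT f T) → (T ⟶ P)) (hP : AbDual.IsRelPicK Scheme.fppfPrecoverage f P φ) :
    ∃ d : ↥P.left → ℤ, IsLocallyConstant d ∧
      ∀ (T : Over S) (L : (PicF.XT f T).Modules), PicF.IsInvertible L → ∀ t : T.left,
        d ((φ T (PicF.cl L)).left.base t) = fibDeg f T L t := by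
  have cover : ∀ (T : Over S) (R : Presieve T.left), R ∈ Scheme.fppfPrecoverage T.left →
      (∀ t : T.left, ∃ (U : Scheme.{u}) (u : U ⟶ T.left), R u ∧ ∃ p, u p = t) ∧
      ∀ ⦃U : Scheme.{u}⦄ (u : U ⟶ T.left), R u → Flat u ∧ LocallyOfFinitePresentation u := by
    intro T R hR
    obtain ⟨ι, Z, g, rfl⟩ := R.exists_eq_ofArrows
    rw [Scheme.fppfPrecoverage, Scheme.ofArrows_mem_precoverage_iff] at hR
    obtain ⟨h1, h2⟩ := hR
    refine ⟨fun t => ?_, fun U u hu => ?_⟩
    · obtain ⟨i, p, hp⟩ := h1 t
      exact ⟨_, g i, ⟨i⟩, p, hp⟩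
    · obtain ⟨i⟩ := hu
      exact h2 i
  have wd : ∀ (T T' : Over S) (L : (PicF.XT f T).Modules) (L' : (PicF.XT f T').Modules), PicF.IsInvertible L →
      PicF.IsInvertible L' → ∀ (t : T.left) (t' : T'.left),
      (φ T (PicF.cl L)).left t = (φ T' (PicF.cl L')).left t' → fibDeg f T L t = fibDeg f T' L' t' := by
    intro T T' L L' hL hL' t t' htt
    let a := (φ T (PicF.cl L)).left
    let a' := (φ T' (PicF.cl L')).left
    obtain ⟨p, hp, hp'⟩ := Scheme.Pullback.exists_preimage_pullback (f := a) (g := a') t t' htt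
    let T'' : Over S := Over.mk (pullback.fst a a' ≫ T.hom)
    let g : T'' ⟶ T := Over.homMk (pullback.fst a a') rfl
    let g' : T'' ⟶ T' := Over.homMk (pullback.snd a a') (by
      show pullback.snd a a' ≫ T'.hom = pullback.fst a a' ≫ T.hom
      rw [← Over.w (φ T' (PicF.cl L')), ← Over.w (φ T (PicF.cl L)), pullback.condition_assoc])
    have hg : g ≫ φ T (PicF.cl L) = g' ≫ φ T' (PicF.cl L') := Over.OverMorphism.ext pullback.condition
    have hM := Amp73.isInvertible_pullback (PicF.XTmap f g) hL
    have hM' := Amp73.isInvertible_pullback (PicF.XTmap f g') hL'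
    obtain ⟨R, hR, hag⟩ := hP.locallyInjective T'' _ _ ⟨_, rfl, hM⟩ ⟨_, rfl, hM'⟩
      (show φ T'' (PicF.pullCl (PicF.XTmap f g) (PicF.cl L)) = φ T'' (PicF.pullCl (PicF.XTmap f g') (PicF.cl L')) by
        rw [hP.natural T T'' g _ ⟨L, rfl, hL⟩, hP.natural T' T'' g' _ ⟨L', rfl, hL'⟩, hg])
    obtain ⟨U, u, hu, r, hr⟩ := (cover T'' R hR).1 p
    have h1 := fibDeg_pullback f hdim (AbDual.ovrHom T'' u) hM r
    have h2 := fibDeg_pullback f hdim (AbDual.ovrHom T'' u) hM' r
    rw [fibDeg_congr f hdim (Amp73.isInvertible_pullback _ hM) (Amp73.isInvertible_pullback _ hM') (hag u hu) r, h2] at h1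
    change fibDeg f T'' _ (u r) = fibDeg f T'' _ (u r) at h1
    rw [hr, fibDeg_pullback f hdim g hL p, fibDeg_pullback f hdim g' hL' p] at h1
    change fibDeg f T' L' (pullback.snd a a' p) = fibDeg f T L (pullback.fst a a' p) at h1
    rw [hp, hp'] at h1
    exact h1.symm
  obtain ⟨R, hR, hrep⟩ := hP.locallySurjective P (𝟙 P)
  have hsurj : ∀ x : P.left, ∃ (U : Scheme.{u}) (u : U ⟶ P.left) (L : (PicF.XT f (AbDual.ovr P u)).Modules),
      R u ∧ PicF.IsInvertible L ∧ φ _ (PicF.cl L) = AbDual.ovrHom P u ∧ ∃ r, u r = x := fun x => by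
    obtain ⟨U, u, hu, r, hr⟩ := (cover P R hR).1 x
    obtain ⟨c, ⟨L, hLc, hL⟩, hc⟩ := hrep u hu
    exact ⟨U, u, L, hu, hL, by rw [hLc, hc, Category.comp_id], r, hr⟩
  choose U u L hu hL hφ r hr using hsurj
  let d : P.left → ℤ := fun x => fibDeg f _ (L x) (r x)
  have hd : ∀ (T : Over S) (M : (PicF.XT f T).Modules), PicF.IsInvertible M → ∀ t : T.left,
      d ((φ T (PicF.cl M)).left t) = fibDeg f T M t := fun T M hM t =>
    wd _ _ _ _ (hL _) hM _ t (by rw [hφ]; exact hr _)
  refine ⟨d, (IsLocallyConstant.iff_exists_open _).2 fun x => ?_, hd⟩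
  have hflat := (cover P R hR).2 (u x) (hu x)
  haveI := hflat.1
  haveI := hflat.2
  obtain ⟨V, hV, hrV, hconst⟩ :=
    (IsLocallyConstant.iff_exists_open _).1 (isLocallyConstant_fibDeg f hdim _ (hL x)) (r x)
  refine ⟨(u x) '' V, (u x).isOpenMap V hV, ⟨r x, hrV, hr x⟩, ?_⟩
  rintro _ ⟨v, hv, rfl⟩
  have h3 : d ((φ _ (PicF.cl (L x))).left v) = fibDeg f _ (L x) v := hd _ (L x) (hL x) v
  rw [hφ] at h3
  exact h3.trans (hconst v hv)

end Groth.Agent.Desc59.Pic
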