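import Groth.Agent.QC70.Hom
import Groth.Agent.EGA73.CoprodModule
import Groth.Agent.Amp73.Local
import Groth.Agent.Amp73.Pullback

/-!
Modules on a scheme covered by pairwise disjoint open pieces.
-/

set_option autoImplicit false
set_option backward.isDefEq.respectTransparency false
set_option backward.isDefEq.respectTransparency.types false
set_option linter.style.haveILetI false

noncomputable section

universe u

open CategoryTheory Limits AlgebraicGeometry Opposite TopologicalSpace
open Groth.Agent.QC70

namespace Groth.Agent.Desc59.Pic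

theorem ofRestrictHom_cancel {Y : Scheme.{u}} {M N : Y.Modules} {U : Y.Opens}
    (a : M.restrict U.ι ⟶ N.restrict U.ι) (b : N.restrict U.ι ⟶ M.restrict U.ι) (h : a ≫ b = 𝟙 _)
    {W : Y.Opens} (hW : W ≤ U) (s : Γ(M, W)) :
    (HomOn.ofRestrictHom b).app W hW ((HomOn.ofRestrictHom a).app W hW s) = s := by
  simp only [HomOn.ofRestrictHom, LinearMap.coe_mk, AddHom.coe_mk]
  rw [res_res, res_self, Iso.hom_inv_id_apply]
  have hx : ∀ (V : (U : Scheme.{u}).Opens) (x : Γ(M.restrict U.ι, V)), b.app V (a.app V x) = x := fun V x =>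
    (congrArg (fun z : M.restrict U.ι ⟶ M.restrict U.ι => z.app V x) h :)
  rw [hx, Iso.inv_hom_id_apply, res_res, res_self]

/-- From an isomorphism of inverse images along an open immersion to one of restrictions to its range. -/
theorem nonempty_restrictIso {Z Y : Scheme.{u}} (j : Z ⟶ Y) [IsOpenImmersion j] {M N : Y.Modules}
    (h : Nonempty ((Scheme.Modules.pullback j).obj M ≅ (Scheme.Modules.pullback j).obj N)) :
    Nonempty (M.restrict j.opensRange.ι ≅ N.restrict j.opensRange.ι) :=
  let k := j.isoOpensRange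
  let c : k.inv ≫ j = j.opensRange.ι := j.isoOpensRange_inv_comp
  ⟨(Scheme.Modules.restrictFunctorIsoPullback _).app M ≪≫ (Scheme.Modules.pullbackCongr c.symm).app M ≪≫
      ((Scheme.Modules.pullbackComp k.inv j).app M).symm ≪≫ (Scheme.Modules.pullback k.inv).mapIso h.some ≪≫
      (Scheme.Modules.pullbackComp k.inv j).app N ≪≫ (Scheme.Modules.pullbackCongr c).app N ≪≫
      ((Scheme.Modules.restrictFunctorIsoPullback _).app N).symm⟩

variable {Y : Scheme.{u}} {ι : Type u} {Z : ι → Scheme.{u}} (j : ∀ i, Z i ⟶ Y)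
  [∀ i, IsOpenImmersion (j i)]
  (hcov : ∀ y, ∃ i, y ∈ Set.range (j i)) (hdis : ∀ i k, i ≠ k → Disjoint (Set.range (j i)) (Set.range (j k)))

include hdis in
theorem compatible_of_disjoint {M N : Y.Modules} (φ : ∀ i, HomOn M N (j i).opensRange) :
    HomOn.Compatible φ := by
  intro i k V hi hk s
  by_cases h : i = k
  · subst h; rfl
  · have hV : V = ⊥ := eq_bot_iff.2 fun y hy => (hdis i k h).le_bot ⟨hi hy, hk hy⟩
    subst hV
    exact @Subsingleton.elim _ (EGA73.subsingleton_sections_bot N) _ _

include hcov hdis in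
/-- Modules isomorphic on every piece are isomorphic. -/
theorem nonempty_iso_of_disjoint_cover {M N : Y.Modules}
    (h : ∀ i, Nonempty ((Scheme.Modules.pullback (j i)).obj M ≅ (Scheme.Modules.pullback (j i)).obj N)) :
    Nonempty (M ≅ N) := by
  have e := fun i => Classical.choice (nonempty_restrictIso (j i) (h i))
  have hU : (⊤ : Y.Opens) ≤ ⨆ i, (j i).opensRange := fun y _ => by
    obtain ⟨i, hi⟩ := hcov y
    exact Opens.mem_iSup.2 ⟨i, hi⟩
  have hφ := compatible_of_disjoint j hdis fun i => HomOn.ofRestrictHom (e i).hom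
  have hψ := compatible_of_disjoint j hdis fun i => HomOn.ofRestrictHom (e i).inv
  refine ⟨⟨(HomOn.glue hφ hU).toHom, (HomOn.glue hψ hU).toHom, ?_, ?_⟩⟩ <;>
  · refine Scheme.Modules.hom_ext _ _ fun V => ?_
    ext s
    simp only [Scheme.Modules.Hom.comp_app, ConcreteCategory.comp_apply, Scheme.Modules.Hom.id_app,
      ConcreteCategory.id_apply]
    rw [HomOn.toHom_app, HomOn.toHom_app]
    refine HomOn.glue_unique (by assumption) hU le_top _ _ fun i => ?_
    rw [← HomOn.app_res, ← HomOn.app_res, HomOn.glue_app _ hU _ i inf_le_right,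
      HomOn.glue_app _ hU _ i inf_le_right]
    first
      | exact ofRestrictHom_cancel _ _ (e i).hom_inv_id _ _
      | exact ofRestrictHom_cancel _ _ (e i).inv_hom_id _ _

/-- A coproduct all of whose terms but one vanish. -/
theorem isIso_sigmaι_of_isZero {C : Type*} [Category C] [HasZeroMorphisms C] (F : ι → C) [HasCoproduct F] (k : ι)
    (h : ∀ i, i ≠ k → IsZero (F i)) : IsIso (Sigma.ι F k) := by
  classical
  let r : ∐ F ⟶ F k := Sigma.desc fun i => if hi : i = k then eqToHom (hi ▸ rfl) else 0
  refine ⟨r, by simp [r], ?_⟩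
  refine Sigma.hom_ext _ _ fun i => ?_
  by_cases hi : i = k
  · subst hi; simp [r]
  · exact (h i hi).eq_of_src _ _

include hcov hdis in
/-- A family of invertible modules on the pieces comes from an invertible module. -/
theorem exists_invertible_of_disjoint_cover (M : ∀ i, (Z i).Modules) (hM : ∀ i, PicF.IsInvertible (M i)) :
    ∃ L : Y.Modules, PicF.IsInvertible L ∧ ∀ i, Nonempty ((Scheme.Modules.pullback (j i)).obj L ≅ M i) := by
  let F : ι → Y.Modules := fun i => (Scheme.Modules.pushforward (j i)).obj (M i)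
  have key : ∀ k, Nonempty ((Scheme.Modules.pullback (j k)).obj (∐ F) ≅ M k) := fun k => by
    let G := Scheme.Modules.pullback (j k)
    haveI : PreservesColimitsOfSize.{u, u} G :=
      (Scheme.Modules.pullbackPushforwardAdjunction (j k)).leftAdjoint_preservesColimits
    haveI := isIso_sigmaι_of_isZero (fun i => G.obj (F i)) k fun i hi =>
      EGA73.isZero_pullback_pushforward_of_disjoint (j k) (j i) (hdis k i hi.symm) (M i)
    exact ⟨PreservesCoproduct.iso G F ≪≫ (asIso (Sigma.ι (fun i => G.obj (F i)) k)).symm ≪≫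
      ((Scheme.Modules.restrictFunctorIsoPullback (j k)).app _).symm ≪≫
      asIso ((Scheme.Modules.restrictAdjunction (j k)).counit.app (M k))⟩
  refine ⟨∐ F, Amp73.isInvertible_of_cover fun y => ?_, key⟩
  obtain ⟨i, hi⟩ := hcov y
  exact ⟨Z i, j i, inferInstance, hi, EGA73.isInvertible_of_iso
    ((key i).some.symm ≪≫ ((Scheme.Modules.restrictFunctorIsoPullback (j i)).app _).symm) (hM i)⟩

end Groth.Agent.Desc59.Pic
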