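import Groth.Agent.ParaF26.DescPush
import Groth.Agent.ParaF26.Depth
import Groth.Agent.ParaF26.Pair
import Groth.Agent.ParaF26.Spread
import Groth.Agent.Amp73.Ext
import Groth.Agent.CAlg1.FlatFibre
import Groth.Agent.E4O.GenOpen
import Groth.Agent.An92.Rat.SectionExt

/-!
Extensions of invertible modules over a big open descend along flat surjective morphisms.
-/

set_option autoImplicit false
set_option backward.isDefEq.respectTransparency false
set_option backward.isDefEq.respectTransparency.types false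
set_option linter.style.haveILetI false
set_option maxHeartbeats 1000000

noncomputable section

universe u

open CategoryTheory Limits AlgebraicGeometry TopologicalSpace Opposite TensorProduct Topology

namespace Groth.Agent.Desc59.Pic

open Var76.LineBundle Var76.ZeroScheme

/-- A module whose flat base change is cyclic is cyclic near the image of a prime. -/
theorem exists_local_generator {R S : Type u} [CommRing R] [CommRing S] [Algebra R S] [Module.Flat R S]
    {N : Type u} [AddCommGroup N] [Module R N] (ψ : S ⊗[R] N ≃ₗ[S] S) (q : PrimeSpectrum S) :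
    ∃ e : N, ∀ n : N, ∃ t c : R, algebraMap R S t ∉ q.asIdeal ∧ t • n = c • e := by
  obtain ⟨e, he⟩ : ∃ e : N, ψ (1 ⊗ₜ e) ∉ q.asIdeal := by
    by_contra! h
    have : ∀ z : S ⊗[R] N, ψ z ∈ q.asIdeal := fun z => by
      induction z with
      | zero => rw [map_zero]; exact zero_mem _
      | add a b ha hb => rw [map_add]; exact add_mem ha hb
      | tmul s n =>
        rw [← mul_one s, ← smul_eq_mul, ← TensorProduct.smul_tmul', map_smul, smul_eq_mul]
        exact Ideal.mul_mem_left _ _ (h n)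
    exact q.2.ne_top ((Ideal.eq_top_iff_one _).2 (ψ.apply_symm_apply 1 ▸ this _))
  refine ⟨e, fun n => ?_⟩
  let s := ψ (1 ⊗ₜ e)
  let P : Submodule R N := R ∙ e
  let I : Ideal R := P.comap (LinearMap.toSpanSingleton R N n)
  let ρ : R →ₗ[R] N ⧸ P := P.mkQ ∘ₗ LinearMap.toSpanSingleton R N n
  have hex : Function.Exact I.subtype ρ := fun r => ⟨fun h => ⟨⟨r, (Submodule.Quotient.mk_eq_zero P).1 h⟩, rfl⟩,
    fun ⟨i, hi⟩ => hi ▸ (Submodule.Quotient.mk_eq_zero P).2 i.2⟩
  have hz : ρ.lTensor S (s ⊗ₜ (1 : R)) = 0 := by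
    have h1 : s • ((1 : S) ⊗ₜ[R] n) = ψ (1 ⊗ₜ n) • ((1 : S) ⊗ₜ[R] e) := ψ.injective (by
      rw [map_smul, map_smul, smul_eq_mul, smul_eq_mul, mul_comm])
    have h2 := congrArg (P.mkQ.lTensor S) h1
    rw [TensorProduct.smul_tmul', TensorProduct.smul_tmul', LinearMap.lTensor_tmul, LinearMap.lTensor_tmul] at h2
    rw [LinearMap.lTensor_tmul, show ρ 1 = P.mkQ n by simp [ρ]]
    rw [smul_eq_mul, smul_eq_mul, mul_one, mul_one] at h2
    rw [h2, show P.mkQ e = 0 from (Submodule.Quotient.mk_eq_zero P).2 (Submodule.mem_span_singleton_self e),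
      TensorProduct.tmul_zero]
  obtain ⟨z, hz'⟩ := ((Module.Flat.lTensor_exact S hex) _).1 hz
  have hrange : ∀ z : S ⊗[R] I, TensorProduct.rid R S (I.subtype.lTensor S z) ∈ I.map (algebraMap R S) := fun z => by
    induction z with
    | zero => rw [map_zero, map_zero]; exact zero_mem _
    | add a b ha hb => rw [map_add, map_add]; exact add_mem ha hb
    | tmul a i =>
      rw [LinearMap.lTensor_tmul, TensorProduct.rid_tmul, Algebra.smul_def]
      exact Ideal.mul_mem_right _ _ (Ideal.mem_map_of_mem _ i.2)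
  have hs : s ∈ I.map (algebraMap R S) := by
    have := hrange z
    rwa [hz', TensorProduct.rid_tmul, one_smul] at this
  obtain ⟨t, htI, ht⟩ : ∃ t ∈ I, algebraMap R S t ∉ q.asIdeal := by
    by_contra! h
    exact he (Ideal.map_le_iff_le_comap.2 h hs)
  obtain ⟨c, hc⟩ := Submodule.mem_span_singleton.1 (show t • n ∈ P from htI)
  exact ⟨t, c, ht, hc.symm⟩

theorem isUnit_fres {X : Scheme.{u}} {W T : X.Opens} (hTW : T ≤ W) (t : Γ(X, W)) (h : T ≤ X.basicOpen t) :
    IsUnit (fres hTW t) := by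
  rw [show fres hTW t = fres h (fres (X.basicOpen_le t) t) from (fres_fres _ _ _).symm]
  exact (RingedSpace.isUnit_res_basicOpen _ t).map (X.presheaf.map (homOfLE h).op).hom

theorem isLocallyConstructible_compl' {Z : Type u} [TopologicalSpace Z] {E : Set Z} (h : IsLocallyConstructible E) :
    IsLocallyConstructible Eᶜ := fun z => by
  obtain ⟨U, h1, h2, h3⟩ := h z
  exact ⟨U, h1, h2, by simpa using h3.compl⟩

variable {X X' : Scheme.{u}} [IsLocallyNoetherian X] [IsLocallyNoetherian X'] (φ : X' ⟶ X) [Flat φ]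
  (V : X.Opens) (hV : ∀ x : X, x ∉ V → 2 ≤ LocCoh.depth (X.presheaf.stalk x) (X.presheaf.stalk x))

omit [IsLocallyNoetherian X] [IsLocallyNoetherian X'] in
theorem two_le_depth_flat [IsLocallyNoetherian X] [IsLocallyNoetherian X'] (y : X') (hy : y ∉ φ ⁻¹ᵁ V)
    (hV : ∀ x : X, x ∉ V → 2 ≤ LocCoh.depth (X.presheaf.stalk x) (X.presheaf.stalk x)) :
    (2 : ℕ∞) ≤ LocCoh.depth (X'.presheaf.stalk y) (X'.presheaf.stalk y) := by
  let A := X.presheaf.stalk (φ y)
  let B := X'.presheaf.stalk y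
  letI : Algebra A B := (φ.stalkMap y).hom.toAlgebra
  haveI : IsLocalHom (algebraMap A B) := inferInstanceAs (IsLocalHom (φ.stalkMap y).hom)
  haveI : Module.Flat A B := Flat.stalkMap φ y
  have h := hV (φ y) hy
  exact h.trans (by rw [CAlg1.depth_of_flat_local A B]; exact le_self_add)

omit [IsLocallyNoetherian X'] in
include hV in
theorem isInvertible_push_of_pullback_ext [IsLocallyNoetherian X'] (hsurj : ∀ x : X, x ∉ V → ∃ y, φ y = x)
    (L : (V : Scheme.{u}).Modules)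
    (hL : PicF.IsInvertible L) (M' : X'.Modules) (hM' : PicF.IsInvertible M')
    (e : (Scheme.Modules.pullback (φ ⁻¹ᵁ V).ι).obj M' ≅ (Scheme.Modules.pullback (φ ∣_ V)).obj L) :
    PicF.IsInvertible ((Scheme.Modules.pushforward V.ι).obj L) := by
  haveI : L.IsQuasicoherent := Mero90.isQCoh_of_isInvertible hL
  let U' := φ ⁻¹ᵁ V
  let P := (Scheme.Modules.pushforward U'.ι).obj ((Scheme.Modules.pullback (φ ∣_ V)).obj L)
  have hres' : ParaF26.ResBij X' U'.ι.opensRange :=
    ParaF26.resBij_of_depth fun y hy => two_le_depth_flat φ V y (by rwa [Scheme.Opens.opensRange_ι] at hy) hV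
  haveI := ParaF26.isIso_unit U'.ι M'
    (ParaF26.closed_of_framedOn hres' (ParaF26.framedOn_of_invertible hM' ⊤))
  have hP : PicF.IsInvertible P := EGA73.isInvertible_of_iso
    (asIso ((Scheme.Modules.restrictAdjunction U'.ι).unit.app M') ≪≫
      (Scheme.Modules.pushforward U'.ι).mapIso ((Scheme.Modules.restrictFunctorIsoPullback U'.ι).app M' ≪≫ e)) hM'
  let N := (Scheme.Modules.pushforward V.ι).obj L
  haveI : N.IsQuasicoherent := QCqs72.isQuasicoherent_pushforward L V.ι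
  have hNfr : ParaF26.FramedOn N V := by
    refine ParaF26.framedOn_of_isInvertible_restrict (EGA73.isInvertible_of_iso ?_ hL)
    exact (asIso ((Scheme.Modules.restrictAdjunction V.ι).counit.app L)).symm
  have hclosed : ∀ T : X.Opens, ParaF26.Closed N V T := fun T S _ => by
    have h : V.ι ⁻¹ᵁ (S ⊓ V) = V.ι ⁻¹ᵁ S := by
      ext z
      exact ⟨fun h => h.1, fun h => ⟨h, z.2⟩⟩
    exact ParaF26.bijective_res_of_eq L (V.ι.preimage_mono inf_le_left) h.ge
  refine Mero90.isInvertible_of_frames fun x => ?_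
  by_cases hx : x ∈ V
  · obtain ⟨W, s, hxW, -, hs⟩ := hNfr x hx
    exact ⟨W, hxW, s, hs⟩
  obtain ⟨y, rfl⟩ := hsurj x hx
  obtain ⟨W, hW, hxW, -⟩ := exists_isAffineOpen_mem_and_subset (show φ y ∈ (⊤ : X.Opens) from trivial)
  obtain ⟨W', hyW', hWV, p, hp⟩ := Mero90.exists_affine_frame hP y (φ ⁻¹ᵁ W) hxW
  letI := (φ.appLE W W'.1 hWV).hom.toAlgebra
  haveI : Module.Flat Γ(X, W) Γ(X', W'.1) := φ.flat_appLE hW W'.2 hWV
  have Hpb : IsPullback (φ ∣_ V) U'.ι V.ι φ := isPullback_morphismRestrict φ V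
  obtain ⟨E⟩ := ParaF26.DescPush.exists_sections_equiv V.ι φ U'.ι (φ ∣_ V) Hpb L hWV hW W'.2
  let ψ : Γ(X', W'.1) ⊗[Γ(X, W)] Γ(N, W) ≃ₗ[Γ(X', W'.1)] Γ(X', W'.1) :=
    (QCPull72.sectionsPullbackEquiv φ N hW W'.2 hWV).symm ≪≫ₗ E ≪≫ₗ (ParaF26.DescPush.frameEquiv hp).symm
  obtain ⟨g, hg⟩ := exists_local_generator ψ (W'.2.primeIdealOf ⟨y, hyW'⟩)
  -- nonvanishing at `φ y`
  have hnv : ∀ t : Γ(X, W), algebraMap _ Γ(X', W'.1) t ∉ (W'.2.primeIdealOf ⟨y, hyW'⟩).asIdeal →
      φ y ∈ X.basicOpen t := by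
    intro t ht
    rw [W'.2.primeIdealOf_eq_map_closedPoint] at ht
    have h1 : y ∈ X'.basicOpen (φ.appLE W W'.1 hWV t) := by
      rw [X'.mem_basicOpen _ y hyW']
      exact not_not.1 ht
    rw [Scheme.basicOpen_appLE] at h1
    exact h1.2
  let G : Set X := {z | ∃ T : X.Opens, z ∈ T ∧ ∃ hT : T ≤ W ⊓ V, IsFrame N T (res N (hT.trans inf_le_left) g)}
  have hGopen : IsOpen G := isOpen_iff_forall_mem_open.2 fun z ⟨T, hz, hT, hf⟩ =>
    ⟨T, fun w hw => ⟨T, hw, hT, hf⟩, T.2, hz⟩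
  have hgen : ∀ z, z ⤳ φ y → z ∈ ((W ⊓ V : X.Opens) : Set X)ᶜ ∪ G := by
    intro z hz
    by_cases hzO : z ∈ W ⊓ V
    swap; · exact Or.inl hzO
    obtain ⟨T₀, s, hzT₀, hT₀, hs⟩ := hNfr z hzO.2
    obtain ⟨r, hr, hzr⟩ := hW.exists_basicOpen_le (V := T₀ ⊓ (W ⊓ V)) ⟨z, hzT₀, hzO⟩ hzO.1
    have hrT : X.basicOpen r ≤ T₀ := hr.trans inf_le_left
    obtain ⟨k, n, hn⟩ := (Amp73.isLocAt (F := N) (inferInstanceAs N.IsQuasicoherent) hW).exists_of r (res N hrT s)
    obtain ⟨t, c, ht, htn⟩ := hg n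
    let T := X.basicOpen r ⊓ X.basicOpen t
    have hzT : z ∈ T := ⟨hzr, hz.mem_open (X.basicOpen t).2 (hnv t ht)⟩
    have hTr : T ≤ X.basicOpen r := inf_le_left
    have hTW : T ≤ W := hTr.trans (X.basicOpen_le r)
    have hu : IsUnit (fres hTW t * fres hTW r ^ k) :=
      (isUnit_fres hTW t inf_le_right).mul ((isUnit_fres hTW r hTr).pow k)
    refine Or.inr ⟨T, hzT, hTr.trans (hr.trans inf_le_right), ?_⟩
    have hsT := hs.res (hTr.trans hrT)
    obtain ⟨d, hd⟩ := (hsT T le_rfl).2 (res N hTW g)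
    dsimp only at hd
    rw [Amp73.res_self] at hd
    rw [← hd]
    refine (Amp73.isFrame_smul_iff hsT d).2 ?_
    have h1 := congrArg (res N hTW) htn
    rw [res_smul, res_smul] at h1
    have h2 : res N hTW n = fres hTW r ^ k • res N (hTr.trans hrT) s := by
      have h3 := congrArg (res N hTr) hn
      rw [res_res, res_smul, res_res] at h3
      rw [h3]
      congr 1
      rw [map_pow]
      exact congrArg (· ^ k) (fres_fres (X.basicOpen_le r) hTr r)
    rw [h2, smul_smul, ← hd, smul_smul] at h1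
    exact isUnit_of_mul_isUnit_right ((hsT T le_rfl).1 (show _ • res N le_rfl _ = _ • res N le_rfl _ by
      simpa [Amp73.res_self] using h1) ▸ hu)
  have hcons : Topology.IsLocallyConstructible (((W ⊓ V : X.Opens) : Set X)ᶜ ∪ G) :=
    (isLocallyConstructible_compl' (An92.Rat.isLocallyConstructible_of_isOpen (W ⊓ V).2)).union
      (An92.Rat.isLocallyConstructible_of_isOpen hGopen)
  obtain ⟨O, hOsub, hO, hyO⟩ := mem_nhds_iff.1 (E4O.mem_nhds_of_forall_generization hcons hgen)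
  let W₀ : X.Opens := W ⊓ ⟨O, hO⟩
  refine ⟨W₀, ⟨hxW, hyO⟩, res N inf_le_left g, ?_⟩
  refine ParaF26.isFrame_of_closed' (U := V) (ParaF26.closed_structure_of_depth fun x _ hx => hV x hx) (hclosed _) ?_
  rw [res_res]
  refine Amp73.isFrame_of_locally _ fun z hz => ?_
  obtain hzn | ⟨T, hzT, hT, hf⟩ := hOsub hz.1.2
  · exact absurd ⟨hz.1.1, hz.2⟩ hzn
  · refine ⟨T ⊓ (W₀ ⊓ V), inf_le_right, ⟨hzT, hz⟩, ?_⟩
    rw [res_res, ← res_res N (hT.trans inf_le_left) (inf_le_left : T ⊓ (W₀ ⊓ V) ≤ T) g]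
    exact hf.res _

end Groth.Agent.Desc59.Pic
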