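import Groth.Agent.Amp73.PullTensor
import Groth.Prelude.Def_Pic13
import Groth.Agent.FGA29.EulerLC
import Groth.Agent.FGA29.IntNumBasic
import Groth.Agent.HP96.FieldExt
import Groth.Agent.FDesc60.TensorFlat
import Groth.Agent.FlatMor66.RelFlatLocus
import Groth.Agent.Snapper75.Coeff
import Groth.Agent.QCCohInd72.Basic

/-!
Euler characteristics are constant in connected families: twisting by a class algebraically equivalent to zero.
-/

set_option autoImplicit false
set_option backward.isDefEq.respectTransparency.types false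
set_option linter.style.haveILetI false

universe u

open CategoryTheory CategoryTheory.Limits AlgebraicGeometry TopologicalSpace TensorProduct
open scoped Groth.Agent.FGA29

noncomputable section

namespace Groth.Agent.Desc59.Pic

/-- Euler characteristics and base change along an extension of fields, for any cartesian square. -/
theorem euler_sq {k K : Type u} [Field k] [Field K] [Algebra k K] {Z Z' : Scheme.{u}}
    [Z.Over (Spec (CommRingCat.of k))] [Z'.Over (Spec (CommRingCat.of K))]
    [IsProper (Z ↘ Spec (CommRingCat.of k))] (g : Z' ⟶ Z)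
    (hsq : IsPullback g (Z' ↘ Spec (CommRingCat.of K)) (Z ↘ Spec (CommRingCat.of k))
      (Spec.map (CommRingCat.ofHom (algebraMap k K)))) {F : Z.Modules} (hF : Coh.IsCoh F) :
    Curv2.euler K Z' ((Scheme.Modules.pullback g).obj F) = Curv2.euler k Z F := by
  haveI := hF.1
  obtain ⟨ι, hι, U, L, φ, N, hU, hU', -, -, hφ⟩ :=
    Mum71.exists_model k F hF (FBase64.AssTensor.isFlatOver_field (Z ↘ Spec (CommRingCat.of k)) F)
  refine finsum_congr fun i => ?_
  obtain ⟨e⟩ := RB70.nonempty_hh_flat_bc (B := K) (X' := Z') (g := g) hsq hU hU' hφ i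
  rw [← e.finrank_eq, Module.finrank_baseChange]

/-- The fibre of a family at a `k`-valued point. -/
theorem euler_fiber_eq {k : Type u} [Field k] {W T Z : Scheme.{u}} (f : W ⟶ T) [IsProper f]
    [Z.Over (Spec (CommRingCat.of k))] (a : Z ⟶ W) (t : Spec (CommRingCat.of k) ⟶ T)
    (hsq : IsPullback a (Z ↘ Spec (CommRingCat.of k)) f t) {G : W.Modules} (hG : Coh.IsCoh G) :
    ∃ s : T, s = t (IsLocalRing.closedPoint k) ∧ Curv2.euler k Z ((Scheme.Modules.pullback a).obj G) =
      @Curv2.euler ↥(T.residueField s) _ (f.fiber s) ⟨f.fiberToSpecResidueField s⟩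
        ((Scheme.Modules.pullback (f.fiberι s)).obj G) := by
  let φ := T.descResidueField (Scheme.stalkClosedPointTo t)
  let s : T := t (IsLocalRing.closedPoint k)
  have hφ : Spec.map φ ≫ T.fromSpecResidueField s = t :=
    Scheme.descResidueField_stalkClosedPointTo_fromSpecResidueField k T t
  refine ⟨s, rfl, ?_⟩
  letI : Algebra (T.residueField s) k := φ.hom.toAlgebra
  letI : (f.fiber s).Over (Spec (CommRingCat.of (T.residueField s : Type u))) := ⟨f.fiberToSpecResidueField s⟩
  haveI : IsProper (f.fiber s ↘ Spec (CommRingCat.of (T.residueField s : Type u))) :=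
    MorphismProperty.pullback_snd (P := @IsProper) _ _ inferInstance
  let e : Z ⟶ f.fiber s := pullback.lift a ((Z ↘ Spec (CommRingCat.of k)) ≫ Spec.map φ)
    (by rw [Category.assoc, hφ, hsq.w])
  have h1 : IsPullback e (Z ↘ Spec (CommRingCat.of k)) (f.fiberToSpecResidueField s) (Spec.map φ) := by
    refine IsPullback.of_right ?_ (pullback.lift_snd _ _ _) (IsPullback.of_hasPullback f (T.fromSpecResidueField s))
    rw [show e ≫ pullback.fst _ _ = a from pullback.lift_fst _ _ _, hφ]
    exact hsq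
  haveI := hG.1
  haveI := hG.2
  have hG' : Coh.IsCoh ((Scheme.Modules.pullback (f.fiberι s)).obj G) :=
    ⟨QCPull72.isQuasicoherent_pullback _ G, QCPull72.isFiniteType_pullback _ G⟩
  rw [← euler_sq (k := (T.residueField s : Type u)) (K := k) e h1 hG']
  exact Crv77.euler_congr ((Scheme.Modules.pullbackCongr (show e ≫ f.fiberι s = a from
    pullback.lift_fst _ _ _)).symm.app G ≪≫ ((Scheme.Modules.pullbackComp e (f.fiberι s)).app G).symm)

/-- Euler characteristics of the fibres at two rational points of a connected base agree. -/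
theorem euler_fiber_const {k : Type u} [Field k] {W T Z : Scheme.{u}} (f : W ⟶ T) [IsProper f]
    [LocallyOfFinitePresentation f] [IsLocallyNoetherian W] [ConnectedSpace T]
    [Z.Over (Spec (CommRingCat.of k))] (a b : Z ⟶ W) (t t' : Spec (CommRingCat.of k) ⟶ T)
    (ha : IsPullback a (Z ↘ Spec (CommRingCat.of k)) f t) (hb : IsPullback b (Z ↘ Spec (CommRingCat.of k)) f t')
    {G : W.Modules} (hG : Coh.IsCoh G) (hfl : FlatMod.IsFlatOver f G) :
    Curv2.euler k Z ((Scheme.Modules.pullback a).obj G) = Curv2.euler k Z ((Scheme.Modules.pullback b).obj G) := by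
  haveI := hG.1
  have hlc := FGA29.EulerLC.isLocallyConstant_eulerChar f G (QCCohInd72.isFP_of_isCoh hG) hfl
  obtain ⟨s, -, e₁⟩ := euler_fiber_eq f a t ha hG
  obtain ⟨s', -, e₂⟩ := euler_fiber_eq f b t' hb hG
  rw [e₁, e₂]
  exact hlc.apply_eq_of_isPreconnected isPreconnected_univ trivial trivial

variable (k : Type u) [Field k] {X : Scheme.{u}} [X.Over (Spec (CommRingCat.of k))]
  [IsProper (X ↘ Spec (CommRingCat.of k))]

theorem isFlatOver_twist {U Y : Scheme.{u}} (g : U ⟶ Y) {P G : U.Modules} (hP : PicF.IsInvertible P)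
    (hG : Coh.IsQCoh G) (hGf : FlatMod.IsFlatOver g G) : FlatMod.IsFlatOver g (CohB1.tensorMod P G) := fun x => by
  haveI : P.IsQuasicoherent := Mero90.isQCoh_of_isInvertible hP
  haveI : G.IsQuasicoherent := hG
  obtain ⟨V, hxV, e, he⟩ := Mero90.exists_frame' hP x
  have hflat : Module.Flat (U.presheaf.stalk x) (P.presheaf.stalk x) := Module.Flat.of_linearEquiv
    (LinearEquiv.ofBijective (LinearMap.toSpanSingleton (U.presheaf.stalk x) _ (P.presheaf.germ V x hxV e))
      (Mero90.frame_germ_bijective he ⟨x, hxV⟩)).symm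
  have hid : FlatMod.IsFlatOverAt (𝟙 U) P x := by
    unfold FlatMod.IsFlatOverAt
    have e' : FlatMod.moduleStalkOver (𝟙 U) P x =
        (inferInstance : Module (U.presheaf.stalk x) (P.presheaf.stalk x)) := by
      refine Module.ext' _ _ fun r m => ?_
      change ((Scheme.Hom.stalkMap (𝟙 U) x).hom r : U.presheaf.stalk x) • m =
        @HSMul.hSMul (U.presheaf.stalk x) _ _ _ r m
      rw [Scheme.Hom.stalkMap_id]
      rfl
    rw [e']
    exact hflat
  have h1 := (FDesc60.tensor_pullback_facts (𝟙 U) g P G x hid).1 (hGf x)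
  simp only [Category.id_comp] at h1
  exact FlatMor66.isFlatOverAt_of_iso g
    (EGA73.tensIso (Iso.refl P) ((Scheme.Modules.pullbackId (X := U)).app G)) x h1

theorem isPullback_slice {T : Scheme.{u}} (q : T ⟶ Spec (CommRingCat.of k)) (t : Spec (CommRingCat.of k) ⟶ T)
    (ht : t ≫ q = 𝟙 _) :
    IsPullback (Pic13.sliceAt k X q t ht) (X ↘ Spec (CommRingCat.of k))
      (pullback.snd (X ↘ Spec (CommRingCat.of k)) q) t := by
  refine IsPullback.of_right ?_ (pullback.lift_snd _ _ _) (IsPullback.of_hasPullback (X ↘ Spec (CommRingCat.of k)) q)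
  rw [ht, show Pic13.sliceAt k X q t ht ≫ pullback.fst _ _ = 𝟙 X from pullback.lift_fst _ _ _]
  exact IsPullback.of_horiz_isIso ⟨by simp⟩

/-- Twisting by a power of a class algebraically equivalent to zero preserves Euler characteristics. -/
theorem euler_tensorPow_of_algEquivZero {L : X.Modules} (hL : Pic13.IsAlgEquivZero k X L)
    {F : X.Modules} (hF : Coh.IsCoh F) (n : ℕ) :
    Curv2.euler k X (CohB1.tensorMod (CohB1.tensorPow L n) F) = Curv2.euler k X F := by
  obtain ⟨T, q, hc, hlft, hqc, M, hM, t, t₀, ht, ht₀, ⟨et⟩, ⟨et₀⟩⟩ := hL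
  haveI := hc
  haveI := hlft
  haveI := hqc
  haveI : IsLocallyNoetherian T := LocallyOfFiniteType.isLocallyNoetherian q
  let f := pullback.snd (X ↘ Spec (CommRingCat.of k)) q
  haveI : IsProper f := inferInstanceAs (IsProper (pullback.snd _ _))
  haveI : LocallyOfFinitePresentation f := inferInstanceAs (LocallyOfFinitePresentation (pullback.snd _ _))
  haveI : IsLocallyNoetherian (Pic13.prodK k X q) := LocallyOfFiniteType.isLocallyNoetherian f
  let p₁ := pullback.fst (X ↘ Spec (CommRingCat.of k)) q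
  haveI := hF.1
  haveI := hF.2
  have hF' : Coh.IsCoh ((Scheme.Modules.pullback p₁).obj F) :=
    ⟨QCPull72.isQuasicoherent_pullback _ F, QCPull72.isFiniteType_pullback _ F⟩
  have hfl : FlatMod.IsFlatOver f ((Scheme.Modules.pullback p₁).obj F) := fun z =>
    FlatMor66.isFlatOverAt_baseChange (IsPullback.of_hasPullback _ _) F hF.1 z
      (FBase64.AssTensor.isFlatOver_field (X ↘ Spec (CommRingCat.of k)) F _)
  have hMn := EGA73.isInvertible_tensorPow hM n
  let G := CohB1.tensorMod (CohB1.tensorPow M n) ((Scheme.Modules.pullback p₁).obj F)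
  have hG : Coh.IsCoh G := Crv77.isCoh_tensorMod (Amp73.isCoh_of_isInvertible hMn) hF'
  have hGf : FlatMod.IsFlatOver f G := isFlatOver_twist f hMn hF'.1 hfl
  have tr : ∀ (s : Spec (CommRingCat.of k) ⟶ T) (hs : s ≫ q = 𝟙 _) (A : X.Modules),
      (Pic13.fibreMod k X q s hs M ≅ A) →
      Curv2.euler k X ((Scheme.Modules.pullback (Pic13.sliceAt k X q s hs)).obj G) =
        Curv2.euler k X (CohB1.tensorMod (CohB1.tensorPow A n) F) := fun s hs A eA => by
    refine Crv77.euler_congr (Desc59.AmpleDesc.pullTensIso _ _ _ ≪≫ EGA73.tensIso ?_ ?_)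
    · exact Amp73.pullPowIso _ hM n ≪≫ Amp73.powIso eA n
    · exact (Scheme.Modules.pullbackComp _ _).app F ≪≫
        (Scheme.Modules.pullbackCongr (pullback.lift_fst _ _ _)).app F ≪≫ (Scheme.Modules.pullbackId X).app F
  have h := euler_fiber_const f _ _ t t₀ (isPullback_slice k q t ht) (isPullback_slice k q t₀ ht₀) hG hGf
  rw [tr t ht L et, tr t₀ ht₀ _ et₀] at h
  rw [h]
  exact FGA29.euler_cl k (by rw [FGA29.cl_tensor, FGA29.cl_tensorPow, FGA29.cl_one, one_pow, one_mul])

/-- Twisting by a class τ-equivalent to zero preserves Euler characteristics. -/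
theorem euler_tensor_of_tauEquivZero {d : ℕ} (hd : topologicalKrullDim X ≤ d) {L : X.Modules} (hL : PicF.IsInvertible L)
    (hτ : Pic13.IsTauEquivZero k X L) {F : X.Modules} (hF : Coh.IsCoh F) (m : ℕ) :
    Curv2.euler k X (CohB1.tensorMod (CohB1.tensorPow L m) F) = Curv2.euler k X F := by
  obtain ⟨n, hn, halg⟩ := hτ
  obtain ⟨P, hP⟩ : ∃ P : Polynomial ℚ, ∀ j : ℕ,
      (Curv2.euler k X (CohB1.tensorMod (CohB1.tensorPow L j) F) : ℚ) = P.eval (j : ℚ) := by
    obtain ⟨Q, -, hQe⟩ := Snapper75.mem_polySub_iff.1 (Snapper75.chi_mem_polySub k (L := fun _ : Fin 1 => L)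
      (fun _ => hL) (d + 1) F hF (lt_of_le_of_lt ((topologicalKrullDim_subspace_le X _).trans hd)
        (by exact_mod_cast Nat.lt_succ_self d)))
    refine ⟨MvPolynomial.aeval (fun _ => Polynomial.X) Q, fun j => ?_⟩
    rw [FGA29.euler_cl k (G := Curv2.tensorPows F 1 (fun _ => L) (fun _ => j))
      (by rw [FGA29.cl_tensor, FGA29.cl_tensorPows, FGA29.cl_tensorPow]; simp [mul_comm])]
    refine (hQe (fun _ => j)).trans ?_
    have := MvPolynomial.map_aeval (fun _ : Fin 1 => (Polynomial.X : Polynomial ℚ)) (Polynomial.evalRingHom (j : ℚ)) Q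
    simp only [Polynomial.coe_evalRingHom, Polynomial.eval_X] at this
    rw [this, MvPolynomial.eval]
    refine congrArg (fun φ : MvPolynomial (Fin 1) ℚ →+* ℚ => φ Q) (MvPolynomial.ringHom_ext (fun r => ?_) (fun i => ?_))
    · rw [MvPolynomial.eval₂Hom_C, MvPolynomial.eval₂Hom_C]
      exact (Polynomial.eval_C (a := r) (x := (j : ℚ))).symm
    · rw [MvPolynomial.eval₂Hom_X', MvPolynomial.eval₂Hom_X']
  have hroot : ∀ j : ℕ, (P - Polynomial.C (Curv2.euler k X F : ℚ)).IsRoot ((n * j : ℕ) : ℚ) := fun j => by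
    rw [Polynomial.IsRoot, Polynomial.eval_sub, Polynomial.eval_C, ← hP,
      ← euler_tensorPow_of_algEquivZero k halg hF j, sub_eq_zero]
    exact_mod_cast FGA29.euler_cl k (by
      rw [FGA29.cl_tensor, FGA29.cl_tensor, FGA29.cl_tensorPow, FGA29.cl_tensorPow, FGA29.cl_tensorPow, pow_mul])
  have h0 : P = Polynomial.C (Curv2.euler k X F : ℚ) := sub_eq_zero.1 (Polynomial.eq_zero_of_infinite_isRoot _
    (Set.infinite_of_injective_forall_mem (f := fun j : ℕ => ((n * j : ℕ) : ℚ))
      (fun i j h => Nat.eq_of_mul_eq_mul_left hn (Nat.cast_injective h)) hroot))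
  have := hP m
  rw [h0, Polynomial.eval_C] at this
  exact_mod_cast this

end Groth.Agent.Desc59.Pic
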