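import Groth.Agent.Desc59.Pic.FamEuler
import Groth.Agent.FBase64.ProductDim
import Groth.Agent.H98PicRel.BaseChange
import Groth.Prelude.Def_AbDual

/-!
Degrees on the fibres of a relative curve and extensions of fields.
-/

set_option autoImplicit false
set_option backward.isDefEq.respectTransparency.types false
set_option linter.style.haveILetI false

universe u

open CategoryTheory CategoryTheory.Limits AlgebraicGeometry TopologicalSpace
open scoped Groth.Agent.FGA29

noncomputable section

namespace Groth.Agent.Desc59.Pic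

/-- Dimension and extension of the ground field, for any cartesian square. -/
theorem dim_sq {k K : Type u} [Field k] [Field K] [Algebra k K] {Z Z' : Scheme.{u}}
    (p : Z ⟶ Spec (CommRingCat.of k)) [LocallyOfFiniteType p] (p' : Z' ⟶ Spec (CommRingCat.of K)) (g : Z' ⟶ Z)
    (hsq : IsPullback g p' p (Spec.map (CommRingCat.ofHom (algebraMap k K)))) :
    topologicalKrullDim Z' = topologicalKrullDim Z :=
  (IsHomeomorph.topologicalKrullDim_eq _ hsq.isoPullback.hom.homeomorph.isHomeomorph).trans
    (FBase64.topologicalKrullDim_bc p K)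

/-- The fibre of a base change is the fibre base changed to the bigger residue field. -/
theorem exists_fiber_square {W T Z : Scheme.{u}} (f : W ⟶ T) {K : Type u} [Field K] (a : Z ⟶ W)
    (p : Z ⟶ Spec (CommRingCat.of K)) (t : Spec (CommRingCat.of K) ⟶ T) (hsq : IsPullback a p f t) :
    ∃ (s : T) (φ : T.residueField s ⟶ CommRingCat.of K) (e : Z ⟶ f.fiber s),
      IsPullback e p (f.fiberToSpecResidueField s) (Spec.map φ) ∧ e ≫ f.fiberι s = a := by
  let φ := T.descResidueField (Scheme.stalkClosedPointTo t)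
  have hφ : Spec.map φ ≫ T.fromSpecResidueField _ = t :=
    Scheme.descResidueField_stalkClosedPointTo_fromSpecResidueField K T t
  let e : Z ⟶ f.fiber (t (IsLocalRing.closedPoint K)) := pullback.lift a (p ≫ Spec.map φ)
    (by rw [Category.assoc, hφ, hsq.w])
  refine ⟨_, φ, e, IsPullback.of_right ?_ (pullback.lift_snd _ _ _) (IsPullback.of_hasPullback f _),
    pullback.lift_fst _ _ _⟩
  rw [show e ≫ pullback.fst _ _ = a from pullback.lift_fst _ _ _, hφ]
  exact hsq

variable {C S : Scheme.{u}} (f : C ⟶ S)

/-- Fibres of a base change of a family of dimension one have dimension one. -/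
theorem dim_fibreAt [LocallyOfFiniteType f] (hdim : ∀ s : S, topologicalKrullDim ↥(f.fiber s) = 1)
    (T : Over S) (t : T.left) : topologicalKrullDim ↥(FGA.fibreAt f T t).left = 1 := by
  have hsq : IsPullback (pullback.fst (PicF.XTproj f T) (T.left.fromSpecResidueField t) ≫ pullback.fst f T.hom)
      (pullback.snd (PicF.XTproj f T) (T.left.fromSpecResidueField t)) f (T.left.fromSpecResidueField t ≫ T.hom) :=
    (IsPullback.of_hasPullback _ _).paste_horiz (IsPullback.of_hasPullback f T.hom)
  obtain ⟨s, φ, e, he, -⟩ := exists_fiber_square (K := T.left.residueField t) f _ _ _ hsq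
  letI : Algebra (S.residueField s) (T.left.residueField t) := φ.hom.toAlgebra
  haveI : LocallyOfFiniteType (f.fiberToSpecResidueField s) :=
    MorphismProperty.pullback_snd (P := @LocallyOfFiniteType) _ _ inferInstance
  exact (dim_sq (k := (S.residueField s : Type u)) (K := (T.left.residueField t : Type u)) (f.fiberToSpecResidueField s) _ e he).trans (hdim s)

/-- Euler characteristics are unchanged by an algebraically trivial twist, descended along a field extension. -/
theorem euler_algTrivial_descend {κ Ω : Type u} [Field κ] [Field Ω] [Algebra κ Ω] {Z Z' : Scheme.{u}}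
    [Z.Over (Spec (CommRingCat.of κ))] [Z'.Over (Spec (CommRingCat.of Ω))]
    [IsProper (Z ↘ Spec (CommRingCat.of κ))] (e : Z' ⟶ Z)
    (hsq : IsPullback e (Z' ↘ Spec (CommRingCat.of Ω)) (Z ↘ Spec (CommRingCat.of κ))
      (Spec.map (CommRingCat.ofHom (algebraMap κ Ω))))
    {A : Z.Modules} (hA : PicF.IsInvertible A) {d : ℕ} (hd : topologicalKrullDim Z ≤ d)
    (halg : Pic13.IsAlgEquivZero Ω Z' ((Scheme.Modules.pullback e).obj A)) :
    FGA.eulerCharLE κ Z A d = FGA.eulerCharLE κ Z (Coh.structureModule Z) d := by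
  haveI : IsProper (Z' ↘ Spec (CommRingCat.of Ω)) := MorphismProperty.of_isPullback hsq ‹_›
  rw [FGA29.eulerCharLE_eq_euler κ hd (Amp73.isCoh_of_isInvertible hA),
    FGA29.eulerCharLE_eq_euler κ hd Crv77.isCoh_structureModule,
    ← euler_sq e hsq (Amp73.isCoh_of_isInvertible hA), ← euler_sq e hsq Crv77.isCoh_structureModule,
    Crv77.euler_congr (PicLoc.pullbackStructureIso e),
    ← euler_tensorPow_of_algEquivZero Ω halg Crv77.isCoh_structureModule 1]
  exact FGA29.euler_cl Ω (by rw [FGA29.cl_tensor, FGA29.cl_tensorPow, FGA29.cl_one, mul_one, pow_one])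

theorem isAlgEquivZero_congr {Ω : Type u} [Field Ω] {Z : Scheme.{u}} [Z.Over (Spec (CommRingCat.of Ω))]
    {A B : Z.Modules} (i : A ≅ B) (h : Pic13.IsAlgEquivZero Ω Z A) : Pic13.IsAlgEquivZero Ω Z B := by
  obtain ⟨T, q, hc, h1, h2, M, hM, t, t₀, ht, ht₀, ⟨et⟩, et₀⟩ := h
  exact ⟨T, q, hc, h1, h2, M, hM, t, t₀, ht, ht₀, ⟨et ≪≫ i⟩, et₀⟩

/-- Algebraic equivalence to zero on the geometric fibre gives degree zero on the fibre of any family. -/
theorem fiberEuler_eq_of_algTrivial {W T : Scheme.{u}} (q : W ⟶ T) [IsProper q] (L : W.Modules)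
    (hL : PicF.IsInvertible L) (t : T) {d : ℕ} (hd : topologicalKrullDim ↥(q.fiber t) ≤ d)
    (h0 : AbDual.IsAlgTrivialAt q L t) (Ω : Type u) [Field Ω] [IsAlgClosed Ω] [Algebra (T.residueField t) Ω] :
    @FGA.eulerCharLE (T.residueField t) _ (q.fiber t) ⟨q.fiberToSpecResidueField t⟩
        ((Scheme.Modules.pullback (q.fiberι t)).obj L) d =
      @FGA.eulerCharLE (T.residueField t) _ (q.fiber t) ⟨q.fiberToSpecResidueField t⟩
        (Coh.structureModule (q.fiber t)) d := by
  let ρ := Spec.map (CommRingCat.ofHom (algebraMap (T.residueField t) Ω))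
  let σ : Spec (CommRingCat.of Ω) ⟶ T := ρ ≫ T.fromSpecResidueField t
  have hpt : ∀ w, σ w = t := fun w => by
    rw [Scheme.Hom.comp_apply]
    exact Scheme.fromSpecResidueField_apply _ _
  have hσ : Set.range σ.base = {t} :=
    Set.eq_singleton_iff_unique_mem.2 ⟨⟨IsLocalRing.closedPoint Ω, hpt _⟩, fun _ ⟨w, hw⟩ => hw ▸ hpt w⟩
  have halg := h0 Ω σ hσ
  letI : (pullback q σ).Over (Spec (CommRingCat.of Ω)) := ⟨pullback.snd q σ⟩
  letI : (q.fiber t).Over (Spec (CommRingCat.of (T.residueField t : Type u))) := ⟨q.fiberToSpecResidueField t⟩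
  haveI : IsProper (q.fiber t ↘ Spec (CommRingCat.of (T.residueField t : Type u))) :=
    MorphismProperty.pullback_snd (P := @IsProper) _ _ inferInstance
  let e : pullback q σ ⟶ q.fiber t :=
    pullback.lift (pullback.fst q σ) (pullback.snd q σ ≫ ρ) (by rw [Category.assoc]; exact pullback.condition)
  have he : e ≫ q.fiberι t = pullback.fst q σ := pullback.lift_fst _ _ _
  have hsq : IsPullback e (pullback.snd q σ) (q.fiberToSpecResidueField t) ρ := by
    refine IsPullback.of_right ?_ (pullback.lift_snd _ _ _) (IsPullback.of_hasPullback _ _)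
    rw [show e ≫ pullback.fst _ _ = _ from pullback.lift_fst _ _ _]
    exact IsPullback.of_hasPullback q σ
  exact euler_algTrivial_descend (κ := (T.residueField t : Type u)) (Ω := Ω) e hsq (Amp73.isInvertible_pullback _ hL) hd
    (isAlgEquivZero_congr ((Scheme.Modules.pullbackCongr he).symm.app L ≪≫
      ((Scheme.Modules.pullbackComp e (q.fiberι t)).app L).symm) halg)

end Groth.Agent.Desc59.Pic
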