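import Groth.Agent.Desc59.Pic.Transition
import Groth.Agent.Desc59.FpqcMor
import Groth.Agent.Desc59.ModDesc
import Groth.Agent.Curves2.Glue.Descend
import Groth.Agent.LimTop61.LocFreeStage
import Groth.Prelude.Def_Pic

/-!
Invertible modules which become trivial on an fppf cover of the base come from the base.
-/

set_option autoImplicit false
set_option backward.isDefEq.respectTransparency false
set_option backward.isDefEq.respectTransparency.types false
set_option linter.style.haveILetI false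

noncomputable section

universe u

open CategoryTheory Limits AlgebraicGeometry Opposite TopologicalSpace
open Groth.Agent.QC70 Groth.Agent.QCPull72 Groth.Agent.LimTop61

namespace Groth.Agent.Desc59.Pic

open Var76.LineBundle (IsFrame)

variable {X S S' : Scheme.{u}} (f : X ⟶ S) (h : S' ⟶ S)

/-- the projection of the base change of `X` to `S'` -/
abbrev bX : pullback f h ⟶ X := pullback.fst f h

/-- the lift of a point of `S'` -/
abbrev liftX {T : Scheme.{u}} (q : T ⟶ S) (a : T ⟶ S') (ea : a ≫ h = q) : pullback f q ⟶ pullback f h :=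
  pullback.lift (pullback.fst f q) (pullback.snd f q ≫ a) (by rw [Category.assoc, ea, pullback.condition])

theorem liftX_fst {T : Scheme.{u}} (q : T ⟶ S) (a : T ⟶ S') (ea : a ≫ h = q) :
    liftX f h q a ea ≫ pullback.fst f h = pullback.fst f q := pullback.lift_fst _ _ _

theorem liftX_snd {T : Scheme.{u}} (q : T ⟶ S) (a : T ⟶ S') (ea : a ≫ h = q) :
    liftX f h q a ea ≫ pullback.snd f h = pullback.snd f q ≫ a := pullback.lift_snd _ _ _

variable {f h} (ha : ∀ (T : Over S) (U : T.left.Opens), IsIso ((PicF.XTproj f T).app U))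

include ha in
theorem pullU_snd_bijective {T : Scheme.{u}} (q : T ⟶ S) : Function.Bijective (pullU (pullback.snd f q)) := by
  haveI := ha (Over.mk q) ⊤
  have hb : Function.Bijective ((pullback.snd f q).appLE ⊤ ⊤ (topLe _)) := by
    have := ConcreteCategory.bijective_of_isIso ((PicF.XTproj f (Over.mk q)).app ⊤)
    rw [Scheme.Hom.app_eq_appLE] at this
    exact this
  let E : Γ(T, ⊤) ≃+* Γ(pullback f q, ⊤) := RingEquiv.ofBijective _ hb
  exact (Units.mapEquiv E.toMulEquiv).bijective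

variable {L : X.Modules} (hL : PicF.IsInvertible L)
  (φ : (Scheme.Modules.pullback (pullback.fst f h)).obj L ≅ Coh.structureModule (pullback f h))

/-- the frame of the trivialised module -/
def frameOf : Γ((Scheme.Modules.pullback (pullback.fst f h)).obj L, (⊤ : (pullback f h).Opens)) :=
  φ.inv.app ⊤ ((1 : Γ(pullback f h, ⊤)) : Γ(Coh.structureModule (pullback f h), ⊤))

theorem isFrame_frameOf : IsFrame ((Scheme.Modules.pullback (pullback.fst f h)).obj L) ⊤ (frameOf φ) :=
  (Amp73.isFrame_app_iff φ.inv _).2 (Amp73.isFrame_one ⊤)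

include hL in
theorem isTrans_base {T' T : Scheme.{u}} (g : T' ⟶ T) {a b : T ⟶ S'} {q : T ⟶ S} {eqa : a ≫ h = q}
    {eqb : b ≫ h = q} {r : Γ(T, ⊤)ˣ}
    (hr : IsTrans (frameOf φ) (liftX f h q b eqb) (liftX f h q a eqa) (pullback.fst f q)
      (liftX_fst f h _ _ _) (liftX_fst f h _ _ _) (pullU (pullback.snd f q) r))
    {a' b' : T' ⟶ S'} {q' : T' ⟶ S} (eqa' : a' ≫ h = q') (eqb' : b' ≫ h = q') (ega : g ≫ a = a')
    (egb : g ≫ b = b') :
    IsTrans (frameOf φ) (liftX f h q' b' eqb') (liftX f h q' a' eqa') (pullback.fst f q')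
      (liftX_fst f h _ _ _) (liftX_fst f h _ _ _) (pullU (pullback.snd f q') (pullU g r)) := by
  have egq : g ≫ q = q' := by rw [← eqa', ← ega, Category.assoc, eqa]
  let G : pullback f q' ⟶ pullback f q :=
    pullback.lift (pullback.fst f q') (pullback.snd f q' ≫ g) (by rw [Category.assoc, egq, pullback.condition])
  have hG : pullU (pullback.snd f q') (pullU g r) = pullU G (pullU (pullback.snd f q) r) := by
    rw [pullU_comp, pullU_comp, pullback.lift_snd]
  have h1 : G ≫ liftX f h q b eqb = liftX f h q' b' eqb' := pullback.hom_ext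
    (by (rw [Category.assoc, liftX_fst, liftX_fst, pullback.lift_fst]) <;> exact egq)
    (by rw [Category.assoc, liftX_snd, liftX_snd, pullback.lift_snd_assoc, Category.assoc, egb])
  have h2 : G ≫ liftX f h q a eqa = liftX f h q' a' eqa' := pullback.hom_ext
    (by (rw [Category.assoc, liftX_fst, liftX_fst, pullback.lift_fst]) <;> exact egq)
    (by rw [Category.assoc, liftX_snd, liftX_snd, pullback.lift_snd_assoc, Category.assoc, ega])
  rw [hG]
  exact IsTrans.pull hL G hr h1 h2

include ha hL in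
theorem exists_cocycle : ∃ c : UCocycle h, ∀ {T : Scheme.{u}} (a b : T ⟶ pullback f h) (q : T ⟶ X)
    (ea : a ≫ pullback.fst f h = q) (eb : b ≫ pullback.fst f h = q)
    (e : (b ≫ pullback.snd f h) ≫ h = (a ≫ pullback.snd f h) ≫ h),
    IsTrans (frameOf φ) a b q ea eb (c.u (b ≫ pullback.snd f h) (a ≫ pullback.snd f h) e) := by
  have key : ∀ {T : Scheme.{u}} (a b : T ⟶ S') (e : a ≫ h = b ≫ h), ∃! r : Γ(T, ⊤)ˣ,
      IsTrans (frameOf φ) (liftX f h (a ≫ h) b e.symm) (liftX f h (a ≫ h) a rfl) (pullback.fst f (a ≫ h))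
        (liftX_fst f h _ _ _) (liftX_fst f h _ _ _) (pullU (pullback.snd f (a ≫ h)) r) := by
    intro T a b e
    obtain ⟨v, hv, huniq⟩ := existsUnique_isTrans hL (isFrame_frameOf φ) (liftX f h (a ≫ h) b e.symm)
      (liftX f h (a ≫ h) a rfl) (pullback.fst f (a ≫ h)) (liftX_fst f h _ _ _) (liftX_fst f h _ _ _)
    obtain ⟨r, rfl⟩ := (pullU_snd_bijective ha (a ≫ h)).2 v
    exact ⟨r, hv, fun r' hr' => (pullU_snd_bijective ha (a ≫ h)).1 (huniq _ hr')⟩
  let u : ∀ {T : Scheme.{u}} (a b : T ⟶ S'), a ≫ h = b ≫ h → Γ(T, ⊤)ˣ := fun a b e => (key a b e).choose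
  have hu : ∀ {T : Scheme.{u}} (a b : T ⟶ S') (e : a ≫ h = b ≫ h),
      IsTrans (frameOf φ) (liftX f h (a ≫ h) b e.symm) (liftX f h (a ≫ h) a rfl) (pullback.fst f (a ≫ h))
        (liftX_fst f h _ _ _) (liftX_fst f h _ _ _) (pullU (pullback.snd f (a ≫ h)) (u a b e)) :=
    fun a b e => (key a b e).choose_spec.1
  -- the units compute all transitions
  have huniv : ∀ {T : Scheme.{u}} (a b : T ⟶ pullback f h) (q : T ⟶ X) (ea : a ≫ pullback.fst f h = q)
      (eb : b ≫ pullback.fst f h = q) (a₀ b₀ : T ⟶ S') (e : b₀ ≫ h = a₀ ≫ h),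
      a ≫ pullback.snd f h = a₀ → b ≫ pullback.snd f h = b₀ → IsTrans (frameOf φ) a b q ea eb (u b₀ a₀ e) := by
    intro T a b q ea eb a₀ b₀ e ha₀ hb₀
    have w : q ≫ f = (𝟙 T) ≫ (b₀ ≫ h) := by
      rw [Category.id_comp, ← hb₀, Category.assoc, ← pullback.condition, ← Category.assoc, eb]
    let t : T ⟶ pullback f (b₀ ≫ h) := pullback.lift q (𝟙 T) w
    have h1 : t ≫ liftX f h (b₀ ≫ h) a₀ e.symm = a := pullback.hom_ext
      (by rw [Category.assoc, liftX_fst, pullback.lift_fst, ea])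
      (by rw [Category.assoc, liftX_snd, pullback.lift_snd_assoc, Category.id_comp, ha₀])
    have h2 : t ≫ liftX f h (b₀ ≫ h) b₀ rfl = b := pullback.hom_ext
      (by rw [Category.assoc, liftX_fst, pullback.lift_fst, eb])
      (by rw [Category.assoc, liftX_snd, pullback.lift_snd_assoc, Category.id_comp, hb₀])
    have h3 := IsTrans.pull hL t (hu b₀ a₀ e) (q' := q) (ea' := ea) (eb' := eb) h1 h2
    have h4 : pullU t (pullU (pullback.snd f (b₀ ≫ h)) (u b₀ a₀ e)) = u b₀ a₀ e := by
      rw [pullU_comp, pullback.lift_snd]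
      refine Units.ext ?_
      rw [coe_pullU]
      simp [Scheme.Hom.appLE]
    rwa [h4] at h3
  have hchar : ∀ {T : Scheme.{u}} (a b : T ⟶ S') (e : a ≫ h = b ≫ h) (q : T ⟶ S) (eqa : a ≫ h = q)
      (eqb : b ≫ h = q) (r : Γ(T, ⊤)ˣ),
      IsTrans (frameOf φ) (liftX f h q b eqb) (liftX f h q a eqa) (pullback.fst f q)
        (liftX_fst f h _ _ _) (liftX_fst f h _ _ _) (pullU (pullback.snd f q) r) → r = u a b e := by
    intro T a b e q eqa eqb r hr
    subst eqa
    exact (key a b e).choose_spec.2 r hr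
  refine ⟨⟨u, fun {T' T} g a b e a' b' e' ega egb => ?_, fun {T} a b d e₁ e₂ => ?_⟩,
    fun a b q ea eb e => huniv a b q ea eb _ _ e rfl rfl⟩
  · exact hchar a' b' e' (a' ≫ h) rfl e'.symm _ (isTrans_base hL φ g (hu a b e) rfl e'.symm ega egb)
  · refine hchar a d (e₁.trans e₂) (a ≫ h) rfl (e₁.trans e₂).symm _ ?_
    rw [map_mul, mul_comm]
    refine IsTrans.trans (b := liftX f h (a ≫ h) b e₁.symm) (eb := liftX_fst f h _ _ _) ?_ (hu a b e₁)
    have := huniv (liftX f h (a ≫ h) d (e₁.trans e₂).symm) (liftX f h (a ≫ h) b e₁.symm) (pullback.fst f (a ≫ h))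
      (liftX_fst f h _ _ _) (liftX_fst f h _ _ _) (pullback.snd f (a ≫ h) ≫ d) (pullback.snd f (a ≫ h) ≫ b)
      (by rw [Category.assoc, Category.assoc, e₂]) (liftX_snd f h _ _ _) (liftX_snd f h _ _ _)
    have e₃ : (pullback.snd f (a ≫ h) ≫ b) ≫ h = (pullback.snd f (a ≫ h) ≫ d) ≫ h := by
      rw [Category.assoc, Category.assoc, e₂]
    have hp : u (pullback.snd f (a ≫ h) ≫ b) (pullback.snd f (a ≫ h) ≫ d) e₃ =
        pullU (pullback.snd f (a ≫ h)) (u b d e₂) :=
      (hchar _ _ e₃ _ rfl e₃.symm _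
        (isTrans_base hL φ (pullback.snd f (a ≫ h)) (hu b d e₂) rfl e₃.symm rfl rfl)).symm
    rwa [hp] at this

end Groth.Agent.Desc59.Pic
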