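import Groth.Agent.Desc59.Pic.FppfTriv

/-!
Invertible modules which become trivial on an fppf cover of the base come from the base: gluing.
-/

set_option autoImplicit false
set_option backward.isDefEq.respectTransparency false
set_option backward.isDefEq.respectTransparency.types false
set_option linter.style.haveILetI false

noncomputable section

universe u

open CategoryTheory Limits AlgebraicGeometry Opposite TopologicalSpace
open Groth.Agent.QC70 Groth.Agent.QCPull72 Groth.Agent.LimTop61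

namespace Groth.Agent.Desc59.Pic

open Var76.LineBundle (IsFrame)

/-- A section whose inverse image along a surjection is a frame is a frame. -/
theorem isFrame_of_unitSec {X X' : Scheme.{u}} (g : X' ⟶ X) [Surjective g] {L : X.Modules}
    (hL : PicF.IsInvertible L) {U : X.Opens} (l : Γ(L, U))
    (hl : IsFrame ((Scheme.Modules.pullback g).obj L) (g ⁻¹ᵁ U) (unitSec g L (le_refl (g ⁻¹ᵁ U)) l)) :
    IsFrame L U l := by
  refine Amp73.isFrame_of_locally _ fun x hx => ?_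
  obtain ⟨W, hxW, hWU, s, hs⟩ := Mero90.exists_affine_frame hL x U hx
  obtain ⟨c, hc⟩ := (hs W.1 le_rfl).2 (QC70.res L hWU l)
  dsimp only at hc
  rw [Amp73.res_self] at hc
  refine ⟨W.1, hWU, hxW, ?_⟩
  show IsFrame L W.1 (QC70.res L hWU l)
  rw [← hc]
  refine (Amp73.isFrame_smul_iff hs c).2 ?_
  have h1 := isFrame_unitSec g hL hs (le_refl (g ⁻¹ᵁ W.1))
  have h2 := hl.res (g.preimage_mono hWU)
  rw [show Var76.LineBundle.res ((Scheme.Modules.pullback g).obj L) (g.preimage_mono hWU)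
      (unitSec g L (le_refl (g ⁻¹ᵁ U)) l) = unitSec g L (le_refl (g ⁻¹ᵁ W.1)) (QC70.res L hWU l) from
    (unitSec_res g L (le_refl (g ⁻¹ᵁ U)) (le_refl (g ⁻¹ᵁ W.1)) hWU (g.preimage_mono hWU) l).symm,
    ← hc, unitSec_smul, ← Scheme.Hom.app_eq_appLE] at h2
  have hu := (Amp73.isFrame_smul_iff h1 _).1 h2
  have hb : g ⁻¹ᵁ X.basicOpen c = g ⁻¹ᵁ W.1 :=
    (Scheme.preimage_basicOpen g c).trans (X'.basicOpen_of_isUnit hu)
  have hb' : X.basicOpen c = W.1 := le_antisymm (X.basicOpen_le c) fun a ha => by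
    obtain ⟨z, rfl⟩ := g.surjective a
    exact hb.ge ha
  exact X.toRingedSpace.isUnit_of_isUnit_germ W.1 c fun y hy => (X.mem_basicOpen c y hy).1 (hb'.ge hy)

variable {X S S' : Scheme.{u}} (f : X ⟶ S) (h : S' ⟶ S) [Flat h] [Surjective h] [IsFpqcMor h]
  {L : X.Modules} (hL : PicF.IsInvertible L)

theorem quasiCompactCover_of_fpqc {A B : Scheme.{u}} (g : A ⟶ B) [IsFpqcMor g] :
    QuasiCompactCover (⟨PUnit.{u + 1}, fun _ => A, fun _ => g⟩ : PreZeroHypercover.{u} B) := by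
  have h := (IsFpqcMor.mem (f := g)).1
  rw [← Presieve.ofArrows_pUnit.{_, _, u + 1}] at h
  exact Scheme.presieve₀_mem_qcPrecoverage_iff.mp h

include hL in
theorem exists_base (ha : ∀ (T : Over S) (U : T.left.Opens), IsIso ((PicF.XTproj f T).app U))
    (φ : (Scheme.Modules.pullback (pullback.fst f h)).obj L ≅ Coh.structureModule (pullback f h)) :
    ∃ N : S.Modules, PicF.IsInvertible N ∧ Nonempty (L ≅ (Scheme.Modules.pullback f).obj N) := by
  obtain ⟨c, hc⟩ := exists_cocycle ha hL φ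
  let D := c.datum
  haveI : L.IsQuasicoherent := Mero90.isQCoh_of_isInvertible hL
  haveI := quasiCompactCover_of_fpqc h
  haveI := quasiCompactCover_of_fpqc (pullback.fst f h)
  haveI : ∀ i : PUnit.{u + 1}, (QEff.Dm D i).IsQuasicoherent := fun _ =>
    Mero90.isQCoh_of_isInvertible EGA73.isInvertible_structureModule
  haveI : ∀ _ : PUnit.{u + 1}, Flat h := fun _ => inferInstance
  haveI : ∀ _ : PUnit.{u + 1}, Flat (pullback.fst f h) := fun _ => inferInstance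
  let N := QEff.dmod D
  haveI : N.IsQuasicoherent := QEff.isQuasicoherent_dmod D
  haveI hη := QEff.isIso_η D PUnit.unit
  have hNl : FlatMod.IsFinLocFree N := ModDesc.isFinLocFree_of_pullback (ι := PUnit.{u + 1}) (fun _ => h)
    (fun _ => inferInstance) N fun _ => by
      have := EGA73.isInvertible_of_iso (asIso (QEff.η D PUnit.unit)).symm
        (EGA73.isInvertible_structureModule (X := S'))
      exact (LimTop61.isFinLocFreeOfRank_iff.mp (Mero90.isFinLocFreeOfRank_of_isInvertible this)).1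
  have hN : PicF.IsInvertible N := by
    have h1 := LimTop61.isFinLocFreeOfRank_iff.mp (Mero90.isFinLocFreeOfRank_of_isInvertible
      (EGA73.isInvertible_of_iso (asIso (QEff.η D PUnit.unit)).symm
        (EGA73.isInvertible_structureModule (X := S'))))
    have h2 : FlatMod.IsFinLocFreeOfRank 1 N := LimTop61.isFinLocFreeOfRank_iff.mpr ⟨hNl, fun x => by
      obtain ⟨x', rfl⟩ := h.surjective x
      exact (LimTop61.stalkRk_pullback h hNl x').symm.trans (h1.2 x')⟩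
    intro x
    obtain ⟨U, hx, ⟨ψ⟩⟩ := h2 x
    exact ⟨U, hx, ⟨ψ ≪≫ coproductUniqueIso fun _ : Fin 1 => Coh.structureModule (↑U : Scheme.{u})⟩⟩
  refine ⟨N, hN, ?_⟩
  choose V hxV m hm using fun x : X => Mero90.exists_frame' hN (f x)
  let g' := pullback.fst f h
  let f' := pullback.snd f h
  let sV : ∀ x, Γ(S', h ⁻¹ᵁ V x) := fun x => QEff.mfam D (m x) PUnit.unit
  have hsu : ∀ x, IsUnit (sV x) := fun x => by
    have h1 := isFrame_unitSec h hN (hm x) (le_refl (h ⁻¹ᵁ V x))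
    have h2 := (Amp73.isFrame_app_iff (QEff.η D PUnit.unit) _).2 h1
    rw [QEff.η_unitSec, QC70.res_self] at h2
    have e : ((sV x : Γ(S', h ⁻¹ᵁ V x)) : Γ(Coh.structureModule S', h ⁻¹ᵁ V x)) =
        sV x • ((1 : Γ(S', h ⁻¹ᵁ V x)) : Γ(Coh.structureModule S', h ⁻¹ᵁ V x)) := (mul_one (sV x)).symm
    exact (Amp73.isFrame_smul_iff (Amp73.isFrame_one _) (sV x)).1 (e ▸ h2)
  have hpre : ∀ x, g' ⁻¹ᵁ (f ⁻¹ᵁ V x) ≤ f' ⁻¹ᵁ (h ⁻¹ᵁ V x) := fun x z hz => by
    show h (f' z) ∈ V x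
    rw [← Scheme.Hom.comp_apply, ← pullback.condition, Scheme.Hom.comp_apply]
    exact hz
  let eg := frameOf φ
  let r : ∀ x, Γ(pullback f h, g' ⁻¹ᵁ (f ⁻¹ᵁ V x)) := fun x => f'.appLE _ _ (hpre x) (sV x)
  let y : ∀ x, Γ((Scheme.Modules.pullback g').obj L, g' ⁻¹ᵁ (f ⁻¹ᵁ V x)) := fun x =>
    r x • QC70.res _ le_top eg
  have hy : ∀ x, IsFrame ((Scheme.Modules.pullback g').obj L) (g' ⁻¹ᵁ (f ⁻¹ᵁ V x)) (y x) := fun x =>
    (Amp73.isFrame_smul_iff ((isFrame_frameOf φ).res le_top) _).2 ((hsu x).map _)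
  have hdesc : ∀ x, ∃! l : Γ(L, f ⁻¹ᵁ V x), ∀ _ : PUnit.{u + 1},
      unitSec g' L (le_refl (g' ⁻¹ᵁ (f ⁻¹ᵁ V x))) l = y x := by
    intro x
    refine QSheaf.existsUnique_descend (fun _ : PUnit.{u + 1} => g') L (f ⁻¹ᵁ V x) (fun _ => y x)
      fun _ _ T a b q ea eb => ?_
    let W := q ⁻¹ᵁ (f ⁻¹ᵁ V x)
    have wa : W ≤ a ⁻¹ᵁ (g' ⁻¹ᵁ (f ⁻¹ᵁ V x)) := preimage_comp_le g' a ea _
    have wb : W ≤ b ⁻¹ᵁ (g' ⁻¹ᵁ (f ⁻¹ᵁ V x)) := preimage_comp_le g' b eb _
    have e₀ : (b ≫ f') ≫ h = (a ≫ f') ≫ h := by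
      rw [Category.assoc, Category.assoc, ← pullback.condition, ← Category.assoc, ← Category.assoc, ea, eb]
    have htr := hc a b q ea eb e₀
    unfold IsTrans at htr
    have wa' : W ≤ (a ≫ f') ⁻¹ᵁ (h ⁻¹ᵁ V x) := fun z hz => hpre x (wa hz)
    have wb' : W ≤ (b ≫ f') ⁻¹ᵁ (h ⁻¹ᵁ V x) := fun z hz => hpre x (wb hz)
    have hrel : sV x |> fun s => (b ≫ f').appLE _ W wb' s *
        T.presheaf.map (homOfLE (le_top : W ≤ ⊤)).op (c.u (b ≫ f') (a ≫ f') e₀ : Γ(T, ⊤)) =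
        (a ≫ f').appLE _ W wa' s := by
      have h0 := QEff.mfam_cmp D (m x) PUnit.unit PUnit.unit T (b ≫ f') (a ≫ f') ((a ≫ f') ≫ h) e₀ rfl W wb' wa'
      have e1 := unitSec_eq_smul_eps (b ≫ f') wb' (sV x)
      have e2 := unitSec_eq_smul_eps (a ≫ f') wa' (sV x)
      have hfr := (isFrame_eps (a ≫ f')).res (le_top : W ≤ ⊤)
      refine (hfr W le_rfl).1 ?_
      dsimp only
      rw [Amp73.res_self, mul_smul]
      refine Eq.trans ?_ e2
      refine Eq.trans ?_ h0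
      rw [QEff.sig_apply]
      refine Eq.trans ?_ (congrArg ((c.hom (b ≫ f') (a ≫ f') e₀).app W) e1).symm
      rw [Scheme.Modules.Hom.app_smul]
      refine congrArg _ ?_
      refine Eq.trans ?_ (app_res (c.hom (b ≫ f') (a ≫ f') e₀) (le_top : W ≤ ⊤) (eps (b ≫ f'))).symm
      rw [UCocycle.hom, epsHom_eps, QC70.res_smul]
    simp only [y]
    rw [QSheaf.tr_smul, QSheaf.tr_smul,
      QSheaf.tr_res ea L (topLe a) _ le_top (le_top : W ≤ ⊤),
      QSheaf.tr_res eb L (topLe b) _ le_top (le_top : W ≤ ⊤), htr, QC70.res_smul, smul_smul]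
    refine congrArg (· • _) ?_
    refine Eq.trans ?_ (congrArg (· * _) (ConcreteCategory.congr_hom
      (Scheme.Hom.appLE_comp_appLE b f' (h ⁻¹ᵁ V x) _ W (hpre x) wb) (sV x))).symm
    refine Eq.trans (ConcreteCategory.congr_hom
      (Scheme.Hom.appLE_comp_appLE a f' (h ⁻¹ᵁ V x) _ W (hpre x) wa) (sV x)) ?_
    exact hrel.symm
  choose l hl hluniq using hdesc
  have hlf : ∀ x, IsFrame L (f ⁻¹ᵁ V x) (l x) := fun x =>
    isFrame_of_unitSec g' hL (l x) (by rw [hl x PUnit.unit]; exact hy x)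
  refine Curves2.Glue.nonempty_iso_of_frames (fun x => f ⁻¹ᵁ V x) (fun x => ⟨x, hxV x⟩) l
    (fun x => Amp73.pullS f N (V x) (m x)) hlf (fun x => Amp73.isFrame_pullS f hN (hm x)) fun i j d hd => ?_
  let O := f ⁻¹ᵁ (V i ⊓ V j)
  let d₀ : Γ(X, O) := d
  have hl₁ : O ≤ f ⁻¹ᵁ V i := f.preimage_mono inf_le_left
  have hl₂ : O ≤ f ⁻¹ᵁ V j := f.preimage_mono inf_le_right
  show d₀ • Var76.LineBundle.res _ hl₂ _ = Var76.LineBundle.res _ hl₁ _
  have hd₀ : d₀ • QC70.res L hl₂ (l j) = QC70.res L hl₁ (l i) := hd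
  obtain ⟨k, hk⟩ := (hm i (V i ⊓ V j) inf_le_left).2 (QC70.res N inf_le_right (m j))
  dsimp only at hk
  have hmk : QC70.res N (inf_le_right : V i ⊓ V j ≤ V j) (m j) = k • QC70.res N inf_le_left (m i) := hk.symm
  let a : Γ(X, O) := f.app (V i ⊓ V j) k
  have hlk : QC70.res L hl₂ (l j) = a • QC70.res L hl₁ (l i) := by
    refine QSheaf.unitSec_ext (fun _ : PUnit.{u + 1} => g') L (U := O)
      (fun z _ => by obtain ⟨w, hw⟩ := g'.surjective z; exact ⟨PUnit.unit, w, hw⟩) _ _ fun _ => ?_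
    rw [unitSec_smul, unitSec_res g' L (le_refl _) (le_refl (g' ⁻¹ᵁ O)) hl₂ (g'.preimage_mono hl₂),
      unitSec_res g' L (le_refl _) (le_refl (g' ⁻¹ᵁ O)) hl₁ (g'.preimage_mono hl₁), hl i PUnit.unit,
      hl j PUnit.unit]
    simp only [y]
    rw [QC70.res_smul, QC70.res_smul, QC70.res_res, QC70.res_res, smul_smul]
    refine congrArg (fun t : Γ(pullback f h, g' ⁻¹ᵁ O) => t • _) ?_
    have hs : QC70.resO S' (h.preimage_mono (inf_le_right : V i ⊓ V j ≤ V j)) (sV j) =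
        h.appLE (V i ⊓ V j) (h ⁻¹ᵁ (V i ⊓ V j)) le_rfl k *
          QC70.resO S' (h.preimage_mono (inf_le_left : V i ⊓ V j ≤ V i)) (sV i) := by
      have e3 := congrArg (fun t => QEff.mfam D t PUnit.unit) hmk
      rw [QEff.mfam_res, QEff.mfam_smul, QEff.mfam_res] at e3
      exact e3
    have hle : g' ⁻¹ᵁ O ≤ f' ⁻¹ᵁ (h ⁻¹ᵁ (V i ⊓ V j)) := fun z hz => ⟨hpre i (hz.1), hpre j (hz.2)⟩
    have e4 := congrArg (f'.appLE _ _ hle) hs
    rw [map_mul] at e4
    have er : ∀ (x : X) (hx : V i ⊓ V j ≤ V x) (w : g' ⁻¹ᵁ O ≤ g' ⁻¹ᵁ (f ⁻¹ᵁ V x)),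
        f'.appLE _ _ hle (QC70.resO S' (h.preimage_mono hx) (sV x)) = QC70.resO _ w (r x) := fun x hx w => by
      show (S'.presheaf.map _ ≫ f'.appLE _ _ hle) (sV x) = (f'.appLE _ _ (hpre x) ≫ (pullback f h).presheaf.map _) (sV x)
      rw [Scheme.Hom.map_appLE, Scheme.Hom.appLE_map]
    rw [← er i inf_le_left, ← er j inf_le_right, e4]
    refine congrArg (· * _) ?_
    show (h.appLE (V i ⊓ V j) _ le_rfl ≫ f'.appLE _ _ hle) k =
      g'.appLE O (g' ⁻¹ᵁ O) le_rfl (f.app (V i ⊓ V j) k)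
    rw [Scheme.Hom.appLE_comp_appLE, Scheme.Hom.app_eq_appLE, ← ConcreteCategory.comp_apply,
      Scheme.Hom.appLE_comp_appLE]

    simp only [f', g', pullback.condition]
  have hp : QC70.res ((Scheme.Modules.pullback f).obj N) hl₂ (Amp73.pullS f N (V j) (m j)) =
      a • QC70.res ((Scheme.Modules.pullback f).obj N) hl₁ (Amp73.pullS f N (V i) (m i)) := by
    refine (Amp73.res_pullS f N (inf_le_right : V i ⊓ V j ≤ V j) (m j)).trans ?_
    refine Eq.trans ?_ (congrArg (a • ·) (Amp73.res_pullS f N (inf_le_left : V i ⊓ V j ≤ V i) (m i)).symm)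
    refine Eq.trans ?_ (Amp73.pullS_smul f N _ k _)
    exact congrArg _ hmk
  have hda : d₀ * a = 1 := by
    refine ((hlf i).res hl₁ O le_rfl).1 ?_
    dsimp only
    rw [Amp73.res_self, one_smul, mul_smul]
    exact (congrArg (d₀ • ·) hlk.symm).trans hd₀
  refine (congrArg (d₀ • ·) hp).trans ?_
  rw [smul_smul, hda, one_smul]

end Groth.Agent.Desc59.Pic
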