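import Groth.Agent.TwistGen95.Ample
import Groth.Agent.Amp73.Pullback
import Groth.Agent.Csa25.FormMap
import Groth.Agent.RegSh99.Basic
import Mathlib.Algebra.Module.Submodule.Union

/-!
Over an infinite field a spanned invertible module has a section generating at finitely many given points.
-/

set_option autoImplicit false
set_option backward.isDefEq.respectTransparency false
set_option backward.isDefEq.respectTransparency.types false

universe u

open CategoryTheory CategoryTheory.Limits AlgebraicGeometry Opposite TopologicalSpace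

noncomputable section

namespace Groth.Agent.Desc59.Pic

open Var76.LineBundle Var76.ZeroScheme Amp73

/-- A module with an immersion into projective space has coordinate sections generating everywhere. -/
theorem exists_sections_cover {X S : Scheme.{u}} {f : X ⟶ S} {L : X.Modules}
    (h : RelAmple.IsRelVeryAmplePn f L) :
    ∃ (n : ℕ) (t : Fin (n + 1) → (Coh.structureModule X ⟶ L)), ∀ x : X, ∃ j, x ∈ CohB1.genLocus L (t j) := by
  obtain ⟨n, i, -, -, ⟨e⟩⟩ := h
  let Z := ULift.{u} ℤ
  let q := pullback.fst (CohB1.ProjSpace.toSpec n Z) (specULiftZIsTerminal.from S)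
  let s : Fin (n + 1) → (Coh.structureModule (CohB1.ProjSpace n Z) ⟶ Twist.twistProjSpace n Z 1) := fun j =>
    TwistGen95.degHom (CohB1.polyGrading n Z) (N := 1) ⟨MvPolynomial.X j, MvPolynomial.isHomogeneous_X Z j⟩
  have hcov : ∀ x : ProjectiveSpectrum (CohB1.polyGrading n Z),
      ∃ g ∈ CohB1.polyGrading n Z 1, g ∉ x.asHomogeneousIdeal := fun x =>
    let ⟨j, hj⟩ := Csa25.exists_X_notMem x
    ⟨_, MvPolynomial.isHomogeneous_X Z j, hj⟩
  have hL₀ : PicF.IsInvertible (Twist.twistProjSpace n Z 1) := Var76.Reg.isInvertible_twist (n := n) (A := Z) 1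
  have hL₁ : PicF.IsInvertible (Twist.twistOver n S 1) := Amp73.isInvertible_pullback q hL₀
  let r : Fin (n + 1) → (Coh.structureModule (CohB1.ProjSpaceOver n S) ⟶ Twist.twistOver n S 1) := fun j => pullHom q (s j)
  refine ⟨n, fun j => pullHom i (r j) ≫ e.inv, fun x => ?_⟩
  obtain ⟨j, hj⟩ := Csa25.exists_X_notMem (q (i x))
  refine ⟨j, ?_⟩
  rw [genLocus_comp_iso, genLocus_pullHom i hL₁, show CohB1.genLocus _ (r j) = q ⁻¹ᵁ CohB1.genLocus _ (s j) from genLocus_pullHom q hL₀ (s j)]
  exact (TwistGen95.genLocus_degHom hcov _).ge hj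

variable {k : Type u} [Field k] {X : Scheme.{u}} (ρ : k →+* Γ(X, ⊤)) {L : X.Modules} {n : ℕ}
  (t : Fin n → (Coh.structureModule X ⟶ L))

/-- linear combination of sections -/
def comb (a : Fin n → k) : Coh.structureModule X ⟶ L :=
  Var76.Frames.ofSection L (∑ j, ρ (a j) • val L (t j) ⊤)

/-- The combinations failing to generate at a point form a proper subspace. -/
theorem exists_submodule (hL : PicF.IsInvertible L) (x : X) (hx : ∃ j, x ∈ CohB1.genLocus L (t j)) :
    ∃ p : Submodule k (Fin n → k), p ≠ ⊤ ∧ ∀ a ∉ p, x ∈ CohB1.genLocus L (comb ρ t a) := by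
  classical
  obtain ⟨U, hxU, -, e, he⟩ := Mero90.exists_affine_frame hL x ⊤ trivial
  choose d hd using fun j => exists_coord (t j) he
  let g : (Fin n → k) → (X.presheaf.stalk x : Type u) := fun a =>
    X.presheaf.germ U.1 x hxU (∑ j, fres le_top (ρ (a j)) * d j)
  let p : Submodule k (Fin n → k) :=
    { carrier := {a | g a ∈ IsLocalRing.maximalIdeal (X.presheaf.stalk x)}
      zero_mem' := by simp [g, fres]
      add_mem' := fun {a b} ha hb => by
        have : g (a + b) = g a + g b := by
          simp [g, fres, add_mul, Finset.sum_add_distrib]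
        show g (a + b) ∈ IsLocalRing.maximalIdeal (X.presheaf.stalk x)
        rw [this]
        exact add_mem ha hb
      smul_mem' := fun c a ha => by
        have : g (c • a) = X.presheaf.germ U.1 x hxU (fres le_top (ρ c)) * g a := by
          simp only [g, Pi.smul_apply, smul_eq_mul, map_mul, ← map_mul (X.presheaf.germ U.1 x hxU).hom, Finset.mul_sum]
          simp [fres, mul_assoc]
        show g (c • a) ∈ IsLocalRing.maximalIdeal (X.presheaf.stalk x)
        rw [this]
        exact Ideal.mul_mem_left _ _ ha }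
  have key : ∀ a, a ∉ p ↔ x ∈ X.basicOpen (∑ j, fres le_top (ρ (a j)) * d j) := fun a => by
    rw [X.mem_basicOpen _ x hxU]
    exact not_not
  refine ⟨p, fun htop => ?_, fun a ha => ?_⟩
  · obtain ⟨j, hj⟩ := hx
    refine ((key (Pi.single j 1)).2 ?_) (htop.ge trivial)
    rw [Finset.sum_eq_single j (fun i _ hi => by simp [fres, Pi.single_eq_of_ne hi])
      (fun hh => absurd (Finset.mem_univ j) hh)]
    rw [Pi.single_eq_same, map_one, show fres (le_top : U.1 ≤ ⊤) (1 : Γ(X, ⊤)) = 1 from map_one _, one_mul,
      ← genLocus_inf_eq_basicOpen (t j) he (hd j)]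
    exact ⟨hj, hxU⟩
  · have hc : (∑ j, fres le_top (ρ (a j)) * d j) • e = val L (comb ρ t a) U.1 := by
      rw [comb, Var76.Frames.val_ofSection, Finset.sum_smul]
      refine Eq.trans ?_ (map_sum (L.presheaf.map (homOfLE (le_top : U.1 ≤ ⊤)).op).hom _ _).symm
      refine Finset.sum_congr rfl fun j _ => ?_
      show _ = res L _ (ρ (a j) • val L (t j) ⊤)
      rw [mul_smul, hd j, res_smul, res_val]
    exact ((genLocus_inf_eq_basicOpen (comb ρ t a) he hc).ge ((key a).1 ha)).1

include ρ t in
/-- Some combination generates at finitely many points. -/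
theorem exists_comb [Infinite k] (hL : PicF.IsInvertible L) (hx : ∀ x : X, ∃ j, x ∈ CohB1.genLocus L (t j))
    {ι : Type*} [Finite ι] (y : ι → X) : ∃ s : Coh.structureModule X ⟶ L, ∀ i, y i ∈ CohB1.genLocus L s := by
  cases nonempty_fintype ι
  choose p hp hmem using fun i => exists_submodule ρ t hL (y i) (hx (y i))
  obtain ⟨a, ha⟩ := Submodule.exists_forall_notMem_of_forall_ne_top (K := k) p hp
  exact ⟨comb ρ t a, fun i => hmem i a (ha i)⟩

end Groth.Agent.Desc59.Pic
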