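import Groth.Agent.FGA29.IntNumBasic
import Groth.Agent.Var76.RegTools
import Groth.Agent.SymPhi99.Classes
import Groth.Agent.Inv57.OfTensor
import Groth.Prelude.Def_Pic13

/-!
Top coefficients of Hilbert polynomials of invertible modules.
-/

set_option autoImplicit false
set_option backward.isDefEq.respectTransparency.types false
set_option linter.style.haveILetI false

universe u

open CategoryTheory CategoryTheory.Limits AlgebraicGeometry TopologicalSpace
open scoped Groth.Agent.FGA29

noncomputable section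

namespace Groth.Agent.Desc59.Pic

/-- The binomial basis is independent, also when evaluated at large arguments only. -/
theorem binom_basis_zero : ∀ (r : ℕ) (c : Fin (r + 1) → ℤ) (s : ℕ),
    (∀ m : ℕ, s ≤ m → ∑ j : Fin (r + 1), c j * ((m + j).choose j : ℤ) = 0) → c = 0
  | 0, c, s, h => funext fun j => by
    rw [Fin.eq_zero j]
    simpa using h s le_rfl
  | r + 1, c, s, h => by
    have hd : (fun j : Fin (r + 1) => c j.succ) = 0 := binom_basis_zero r _ (s + 1) fun m hm => by
      obtain ⟨m, rfl⟩ : ∃ m', m = m' + 1 := ⟨m - 1, by omega⟩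
      have h1 := h (m + 1) (by omega)
      have h0 := h m (by omega)
      rw [Fin.sum_univ_succ] at h1 h0
      simp only [Fin.val_zero, Nat.choose_zero_right, Nat.cast_one, mul_one, Fin.val_succ] at h1 h0
      have e : ∀ j : Fin (r + 1), c j.succ * ((m + 1 + j).choose j : ℤ) =
          c j.succ * ((m + 1 + ((j : ℕ) + 1)).choose ((j : ℕ) + 1) : ℤ) -
            c j.succ * ((m + ((j : ℕ) + 1)).choose ((j : ℕ) + 1) : ℤ) := fun j => by
        rw [show m + 1 + ((j : ℕ) + 1) = m + ((j : ℕ) + 1) + 1 by omega, Nat.choose_succ_succ',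
          show m + ((j : ℕ) + 1) = m + 1 + (j : ℕ) by omega]
        push_cast
        ring
      rw [Finset.sum_congr rfl fun j _ => e j, Finset.sum_sub_distrib]
      linarith
    have h0 := h s le_rfl
    rw [Fin.sum_univ_succ, Finset.sum_eq_zero fun j _ => by rw [congrFun hd j, Pi.zero_apply, zero_mul],
      add_zero] at h0
    simp only [Fin.val_zero, Nat.choose_zero_right, Nat.cast_one, mul_one] at h0
    exact funext fun j => Fin.cases h0 (fun i => congrFun hd i) j

/-- From Newton form to the binomial basis. -/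
theorem newton_to_binom (E : ℕ → ℤ) (m : ℕ) : ∀ r : ℕ,
    (Finset.range (r + 1)).sum (fun i => ((m + i - 1).choose i : ℤ) * E i) =
      (Finset.range r).sum (fun j => (E j - E (j + 1)) * ((m + j).choose j : ℤ)) + E r * ((m + r).choose r : ℤ)
  | 0 => by simp
  | r + 1 => by
    rw [Finset.sum_range_succ, newton_to_binom E m r, Finset.sum_range_succ _ r,
      show m + (r + 1) - 1 = m + r by omega, show m + (r + 1) = m + r + 1 by omega, Nat.choose_succ_succ' (m + r) r]
    push_cast
    ring

variable (k : Type u) [Field k] {X : Scheme.{u}} [X.Over (Spec (CommRingCat.of k))]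
  [IsProper (X ↘ Spec (CommRingCat.of k))]

/-- The coefficients of the Hilbert polynomial of a module in terms of intersection symbols. -/
theorem hilb_coeff {r : ℕ} (hd : topologicalKrullDim X ≤ (r : ℕ)) {A M F : X.Modules} (hA : PicF.IsInvertible A)
    (hM : PicF.IsInvertible M) (hAM : PicF.cl A * PicF.cl M = 1) (hF : Coh.IsCoh F) (a : Fin (r + 1) → ℤ)
    (ha : ∀ m : ℕ, Curv2.euler k X (CohB1.tensorMod (CohB1.tensorPow A m) F) =
      ∑ j : Fin (r + 1), a j * ((m + j).choose j : ℤ)) :
    a (Fin.last r) = Cyc90.Dev.intE k (fun _ : Fin r => M) F ∧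
      ∀ j : Fin r, a j.castSucc =
        Cyc90.Dev.intE k (fun _ : Fin j => M) F - Cyc90.Dev.intE k (fun _ : Fin ((j : ℕ) + 1) => M) F := by
  let E : ℕ → ℤ := fun i => Cyc90.Dev.intE k (fun _ : Fin i => M) F
  let b : Fin (r + 1) → ℤ := fun j => if (j : ℕ) < r then E j - E ((j : ℕ) + 1) else E j
  have hbl : b (Fin.last r) = E r := by simp [b]
  have hbc : ∀ j : Fin r, b j.castSucc = E j - E ((j : ℕ) + 1) := fun j => by simp [b]
  have hab : a - b = 0 := binom_basis_zero r _ 0 fun m _ => by
    have h1 := FGA29.euler_tensorPow_eq_sum k hA hM hAM hF ((topologicalKrullDim_subspace_le X _).trans hd) m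
    rw [ha, newton_to_binom E m r] at h1
    rw [Finset.sum_congr rfl fun j _ => show (a - b) j * _ = a j * ((m + j).choose j : ℤ) - b j * ((m + j).choose j : ℤ)
      from sub_mul _ _ _, Finset.sum_sub_distrib, h1, Fin.sum_univ_castSucc, hbl,
      ← Fin.sum_univ_eq_sum_range (fun j => (E j - E (j + 1)) * ((m + j).choose j : ℤ))]
    simp [hbc]
  rw [sub_eq_zero.1 hab]
  exact ⟨hbl, hbc⟩

/-- The top symbol is unchanged by an invertible twist. -/
theorem intE_twist_top {r : ℕ} (hd : topologicalKrullDim X ≤ (r : ℕ)) {M : Fin r → X.Modules}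
    (hM : ∀ i, PicF.IsInvertible (M i)) {A : X.Modules} (hA : PicF.IsInvertible A) {F : X.Modules}
    (hF : Coh.IsCoh F) : Cyc90.Dev.intE k M (CohB1.tensorMod F A) = Cyc90.Dev.intE k M F := by
  have h := FGA29.intE_eq_zero_of_dim_lt k (M := (Fin.cons A M : Fin (r + 1) → X.Modules)) (Fin.cases hA hM) hF
    (lt_of_le_of_lt ((topologicalKrullDim_subspace_le X _).trans hd) (by exact_mod_cast Nat.lt_succ_self r))
  rw [FGA29.intE_cons] at h
  linarith

theorem cl_twist_nat (n : ℕ) (i : X ⟶ CohB1.ProjSpace n k) : ∀ m : ℕ,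
    PicF.cl ((Scheme.Modules.pullback i).obj (Twist.twistProjSpace n k (m : ℤ))) =
      PicF.cl ((Scheme.Modules.pullback i).obj (Twist.twistProjSpace n k 1)) ^ m
  | 0 => by
    rw [pow_zero]
    obtain ⟨e⟩ := Var76.Reg.nonempty_twist_zero (n := n) (A := k)
    exact Quot.sound ⟨(Scheme.Modules.pullback i).mapIso e ≪≫ PicLoc.pullbackStructureIso i⟩
  | m + 1 => by
    rw [pow_succ, ← cl_twist_nat n i m]
    have h := SymPhi99.pullCl_mul i
      (a := PicF.cl (Twist.twistProjSpace n k (m : ℤ))) (b := PicF.cl (Twist.twistProjSpace n k 1))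
      ⟨_, rfl, EGA73.isInvertible_twist (Var76.Reg.hgen n k) _⟩ ⟨_, rfl, EGA73.isInvertible_twist (Var76.Reg.hgen n k) _⟩
    refine Eq.trans (congrArg (PicF.pullCl i) (Quot.sound ?_)) h
    obtain ⟨e⟩ := Var76.Reg.nonempty_twist_add (n := n) (A := k) (a := (m : ℤ)) (b := 1) rfl
    exact ⟨eqToIso (by push_cast; rfl) ≪≫ e.symm⟩

theorem cl_twist_neg (n : ℕ) (i : X ⟶ CohB1.ProjSpace n k) :
    PicF.cl ((Scheme.Modules.pullback i).obj (Twist.twistProjSpace n k 1)) *
      PicF.cl ((Scheme.Modules.pullback i).obj (Twist.twistProjSpace n k (-1))) = 1 := by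
  have h := SymPhi99.pullCl_mul i
    (a := PicF.cl (Twist.twistProjSpace n k 1)) (b := PicF.cl (Twist.twistProjSpace n k (-1)))
    ⟨_, rfl, EGA73.isInvertible_twist (Var76.Reg.hgen n k) _⟩ ⟨_, rfl, EGA73.isInvertible_twist (Var76.Reg.hgen n k) _⟩
  refine h.symm.trans ?_
  obtain ⟨e⟩ := Var76.Reg.nonempty_twist_add (n := n) (A := k) (a := (1 : ℤ)) (b := -1) (c := 0) (by omega)
  obtain ⟨e₀⟩ := Var76.Reg.nonempty_twist_zero (n := n) (A := k)
  exact Quot.sound ⟨(Scheme.Modules.pullback i).mapIso (e ≪≫ e₀) ≪≫ PicLoc.pullbackStructureIso i⟩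

/-- Top two coefficients of the Hilbert polynomial of an invertible module. -/
theorem hilb_top (n : ℕ) (i : X ⟶ CohB1.ProjSpace n k) (s : ℕ) (hdim : topologicalKrullDim X ≤ (s + 1 : ℕ))
    (L L' : X.Modules) (hL : PicF.IsInvertible L) (hLL' : Nonempty (CohB1.tensorMod L L' ≅ Coh.structureModule X))
    (a e : Fin (s + 2) → ℤ)
    (ha : ∀ m : ℕ, FGA.eulerCharLE k X (Pic13.twistOn k i L m) (s + 1) = ∑ j : Fin (s + 2), a j * ((m + j).choose j : ℤ))
    (he : ∀ m : ℕ, FGA.eulerCharLE k X (Pic13.twistOn k i (Coh.structureModule X) m) (s + 1) =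
      ∑ j : Fin (s + 2), e j * ((m + j).choose j : ℤ)) :
    a (Fin.last (s + 1)) = e (Fin.last (s + 1)) ∧
      a (Fin.last (s + 1)) = FGA.intNum k X (s + 1)
        (fun _ : Fin (s + 1) => (Scheme.Modules.pullback i).obj (Twist.twistProjSpace n k (-1))) (Coh.structureModule X) ∧
      a (Fin.castSucc (Fin.last s)) - e (Fin.castSucc (Fin.last s)) = FGA.intNum k X (s + 1)
        (Matrix.vecCons L' (fun _ : Fin s => (Scheme.Modules.pullback i).obj (Twist.twistProjSpace n k (-1))))
        (Coh.structureModule X) := by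
  set A := (Scheme.Modules.pullback i).obj (Twist.twistProjSpace n k 1)
  set M := (Scheme.Modules.pullback i).obj (Twist.twistProjSpace n k (-1))
  have hA : PicF.IsInvertible A := Amp73.isInvertible_pullback i (EGA73.isInvertible_twist (Var76.Reg.hgen n k) _)
  have hM : PicF.IsInvertible M := Amp73.isInvertible_pullback i (EGA73.isInvertible_twist (Var76.Reg.hgen n k) _)
  have hL' : PicF.IsInvertible L' :=
    Inv57.isInvertible_of_tensorMod_iso (EGA73.tensComm L' L ≪≫ hLL'.some)
  have hO : Coh.IsCoh (Coh.structureModule X) := Crv77.isCoh_structureModule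
  have hLc : Coh.IsCoh L := Amp73.isCoh_of_isInvertible hL
  have conv : ∀ {G : X.Modules}, Coh.IsCoh G → ∀ m : ℕ, FGA.eulerCharLE k X (Pic13.twistOn k i G m) (s + 1) =
      Curv2.euler k X (CohB1.tensorMod (CohB1.tensorPow A m) G) := fun {G} hG m => by
    rw [FGA29.eulerCharLE_eq_euler k hdim (F := Pic13.twistOn k i G m) (Amp73.isCoh_tensorMod hG
      (Amp73.isCoh_of_isInvertible (Amp73.isInvertible_pullback i (EGA73.isInvertible_twist (Var76.Reg.hgen n k) _))))]
    exact FGA29.euler_cl k (by rw [Pic13.twistOn, FGA29.cl_tensor, FGA29.cl_tensor, cl_twist_nat,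
      FGA29.cl_tensorPow, mul_comm])
  obtain ⟨haL, haC⟩ := hilb_coeff k hdim hA hM (cl_twist_neg k n i) hLc a fun m => (conv hLc m).symm.trans (ha m)
  obtain ⟨heL, heC⟩ := hilb_coeff k hdim hA hM (cl_twist_neg k n i) hO e fun m => (conv hO m).symm.trans (he m)
  have htop : Cyc90.Dev.intE k (fun _ : Fin (s + 1) => M) L =
      Cyc90.Dev.intE k (fun _ : Fin (s + 1) => M) (Coh.structureModule X) := by
    rw [← intE_twist_top k hdim (fun _ => hM) hL hO]
    exact FGA29.intE_cl k _ (by rw [FGA29.cl_tensor, FGA29.cl_one, one_mul])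
  have hLM : ∀ j : Fin (s + 1), PicF.IsInvertible (Matrix.vecCons L' (fun _ : Fin s => M) j) :=
    Fin.cases hL' fun _ => hM
  refine ⟨?_, ?_, ?_⟩
  · rw [haL, heL, htop]
  · rw [haL, htop, FGA29.intNum_eq_intE k hdim (fun _ => hM) hO]
  · rw [haC, heC, FGA29.intNum_eq_intE k hdim hLM hO]
    simp only [Fin.val_last]
    rw [htop, sub_sub_sub_cancel_right,
      ← intE_twist_top k hdim hLM hL hO, show (Matrix.vecCons L' (fun _ : Fin s => M)) = Fin.cons L' (fun _ : Fin s => M) from rfl,
      FGA29.intE_cons, FGA29.intE_cl k (fun _ : Fin s => M) (F := CohB1.tensorMod (Coh.structureModule X) L) (G := L)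
        (by rw [FGA29.cl_tensor, FGA29.cl_one, one_mul]),
      FGA29.intE_cl k (fun _ : Fin s => M) (F := CohB1.tensorMod (CohB1.tensorMod (Coh.structureModule X) L) L')
        (G := Coh.structureModule X) (by
          rw [FGA29.cl_tensor, FGA29.cl_tensor, FGA29.cl_one, one_mul]; exact Quot.sound hLL')]

end Groth.Agent.Desc59.Pic
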