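import Groth.Agent.EGA73.MorDetNorm
import Groth.Agent.Amp73.Powers
import Groth.Agent.Amp73.Pullback
import Groth.Agent.ParaF26.Depth
import Groth.Agent.Amp73.Local

/-!
The degree-th power of an invertible module trivialised by a finite locally free covering is trivial.
-/

set_option autoImplicit false
set_option backward.isDefEq.respectTransparency false
set_option backward.isDefEq.respectTransparency.types false

universe u

open CategoryTheory CategoryTheory.Limits AlgebraicGeometry Opposite TopologicalSpace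

noncomputable section

namespace Groth.Agent.Desc59.Pic

open Var76.LineBundle Var76.ZeroScheme Amp73

variable {X X' : Scheme.{u}} {f : X' ⟶ X} {d : ℕ}

theorem nonempty_tensorPow_iso_unit (N : Nrm.NormOfDegree f d) {L : X.Modules} (hL : PicF.IsInvertible L)
    (φ : (Scheme.Modules.pullback f).obj L ≅ Coh.structureModule X') :
    Nonempty (CohB1.tensorPow L d ≅ Coh.structureModule X) := by
  obtain ⟨t, ht⟩ := ParaF26.exists_frame_of_iso_unit φ
  choose W hW e he using fun x => Mero90.exists_frame' hL x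
  choose a ha using fun x =>
    (Amp73.isFrame_pullS f hL (he x) (f ⁻¹ᵁ W x) le_rfl).2 (res _ (le_top : f ⁻¹ᵁ W x ≤ ⊤) t)
  dsimp only at ha
  simp only [res_self] at ha
  let σ : ∀ x, Γ(CohB1.tensorPow L d, W x) := fun x => N.norm (W x) (a x) • epow (e x) d
  have hnr : ∀ {U V : X.Opens} (h : V ≤ U) (s : Γ(X', f ⁻¹ᵁ U)),
      fres h (N.norm U s) = N.norm V (fres (f.preimage_mono h) s) := fun h s => N.norm_res (homOfLE h) s
  have hσ : ∀ x y, res _ (inf_le_left : W x ⊓ W y ≤ W x) (σ x) = res _ (inf_le_right : W x ⊓ W y ≤ W y) (σ y) := by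
    intro x y
    let V := W x ⊓ W y
    obtain ⟨c, hc⟩ := (he x V inf_le_left).2 (res L inf_le_right (e y))
    dsimp only at hc
    have hl := (Amp73.isFrame_pullS f hL (he x)) (f ⁻¹ᵁ V) (f.preimage_mono inf_le_left)
    have h1 := congrArg (res _ (f.preimage_mono (inf_le_left : V ≤ W x))) (ha x)
    have h2 := congrArg (res _ (f.preimage_mono (inf_le_right : V ≤ W y))) (ha y)
    rw [res_smul, res_res] at h1 h2
    rw [res_pullS f L inf_le_right, ← hc, pullS_smul, ← res_pullS f L inf_le_left, smul_smul] at h2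
    have h3 := hl.1 (h1.trans h2.symm)
    show res _ inf_le_left (N.norm _ (a x) • epow (e x) d) = res _ inf_le_right (N.norm _ (a y) • epow (e y) d)
    rw [res_smul, res_smul, res_epow, res_epow, ← hc, epow_smul, smul_smul]
    congr 1
    show fres _ (N.norm _ (a x)) = fres _ (N.norm _ (a y)) * c ^ d
    rw [hnr inf_le_left, hnr inf_le_right, ← N.norm_app V c, ← map_mul]
    exact congrArg (N.norm V) h3
  obtain ⟨S, hS, -⟩ := TopCat.Sheaf.existsUnique_gluing'
    (⟨(CohB1.tensorPow L d).presheaf, (CohB1.tensorPow L d).isSheaf⟩ : TopCat.Sheaf _ X.toTopCat)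
    W ⊤ (fun _ => homOfLE le_top) (fun y _ => Opens.mem_iSup.2 ⟨y, hW y⟩) σ hσ
  refine ParaF26.nonempty_iso_unit (e := S) (isFrame_of_locally S fun x _ => ⟨W x, le_top, hW x, ?_⟩)
  rw [show res _ le_top S = σ x from hS x]
  refine (isFrame_smul_iff (isFrame_epow (he x) d) _).2 ?_
  refine IsUnit.map (N.norm (W x)) ?_
  have hfr := ht.res (le_top : f ⁻¹ᵁ W x ≤ ⊤)
  rw [← ha x] at hfr
  exact (isFrame_smul_iff (Amp73.isFrame_pullS f hL (he x)) _).1 hfr

end Groth.Agent.Desc59.Pic
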