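import Groth.Agent.Desc59.Pic.CurveThrough
import Groth.Agent.Crv77.RR
import Groth.Agent.Crv77.TwistSection
import Groth.Agent.Amp73.Pullback
import Groth.Agent.ParaF26.Open
import Groth.Prelude.Def_Pic13

/-!
A numerically trivial invertible module with a nonzero section is trivial.
-/

set_option autoImplicit false
set_option backward.isDefEq.respectTransparency.types false
set_option linter.style.haveILetI false

universe u

open CategoryTheory CategoryTheory.Limits AlgebraicGeometry TopologicalSpace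

noncomputable section

namespace Groth.Agent.Desc59.Pic

open Var76.LineBundle Var76.ZeroScheme Crv77

variable (k : Type u) [Field k]

/-- On an integral curve a nonzero section of an invertible module of degree zero generates. -/
theorem genLocus_eq_top_of_deg_zero {Y : Scheme.{u}} [Y.Over (Spec (CommRingCat.of k))] (hY : CurveCoh k Y)
    [IsIntegral Y] [IsNoetherian Y] (hdim : topologicalKrullDim Y ≤ 1) {L : Y.Modules} (hL : PicF.IsInvertible L)
    (s : Coh.structureModule Y ⟶ L) (hs : s.app ⊤ (1 : Γ(Y, ⊤)) ≠ 0) (hdeg : Curv2.deg k Y L 1 = 0) :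
    CohB1.genLocus L s = ⊤ := by
  obtain ⟨hm, hgen⟩ := section_of_invertible hL s hs
  have hLc := isCoh_of_isInvertible hL
  have hQ := isCoh_cokernel s isCoh_structureModule hLc
  obtain ⟨S, hS, hcl, hsupp⟩ := exists_suppIn hdim hQ (QC70.subsingleton_stalk_cokernel s _ hgen)
  let T := ShortComplex.mk s (cokernel.π s) (cokernel.condition _)
  have hT : T.ShortExact :=
    { exact := ShortComplex.exact_of_g_is_cokernel _ (cokernelIsCokernel _)
      mono_f := hm
      epi_g := inferInstanceAs (Epi (cokernel.π _)) }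
  have e := hY.euler_add hT isCoh_structureModule hLc
  rw [hY.euler_eq_of_suppIn hQ hsupp hS hcl] at e
  simp only [Curv2.deg, Nat.cast_one, one_mul] at hdeg
  change Curv2.euler k Y L = _ at e
  have hz : IsZero (cokernel s) := by
    have := hY.finite _ hQ 0
    refine hsupp.isZero hS hcl ((Module.finrank_zero_iff (R := k)).1 ?_)
    simp only [h] at e
    have h' : (Module.finrank k (Coh.HH Y (cokernel s) 0) : ℤ) = 0 := by linarith
    exact_mod_cast h'
  have : Epi s := Preadditive.epi_of_isZero_cokernel s hz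
  have := isIso_of_mono_of_epi s
  have h1 : IsIso ((Scheme.Modules.restrictFunctor (⊤ : Y.Opens).ι).map s) := inferInstance
  exact eq_top_iff.2 ((Amp73.isFrame_iff_le_genLocus s ⊤).1 ((Amp73.isIso_restrict_map_iff s ⊤).1 h1))

variable {X : Scheme.{u}}

theorem exists_mem_genLocus_of_ne_zero [IsIntegral X] {L : X.Modules} (hL : PicF.IsInvertible L)
    {s : Coh.structureModule X ⟶ L} (hs : s ≠ 0) : ∃ x, x ∈ CohB1.genLocus L s := by
  by_contra hcon
  push Not at hcon
  choose U hU e he using fun x => Mero90.exists_frame' hL x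
  have hzero : ∀ x, val L s (U x) = 0 := fun x => by
    obtain ⟨c, hc⟩ := Amp73.exists_coord s (he x)
    have h0 : X.basicOpen c = ⊥ := eq_bot_iff.2 fun y hy =>
      absurd (((Amp73.genLocus_inf_eq_basicOpen s (he x) hc).ge hy).1) (hcon y)
    rw [← hc, (basicOpen_eq_bot_iff c).1 h0, zero_smul]
  apply hs
  refine Scheme.Modules.hom_ext _ _ fun W => ?_
  refine ConcreteCategory.hom_ext _ _ fun (a : Γ(X, W)) => ?_
  rw [Amp73.app_eq_smul_val]
  show _ = (0 : Γ(L, W))
  have hW : val L s W = 0 := QC70.section_ext L _ _ fun x hx => ⟨W ⊓ U x, inf_le_left, ⟨hx, hU x⟩, by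
    show res L inf_le_left (val L s W) = res L inf_le_left (0 : Γ(L, W))
    rw [res_val, ← res_val L s (inf_le_right : W ⊓ U x ≤ U x), hzero x]
    simp [res]⟩
  rw [hW, smul_zero]

variable [X.Over (Spec (CommRingCat.of k))] [IsProper (X ↘ Spec (CommRingCat.of k))]

theorem nonempty_iso_of_numTrivial [IsIntegral X] {L : X.Modules} (hL : PicF.IsInvertible L)
    (hnum : Pic13.IsNumEquivZero k X L) (s : Coh.structureModule X ⟶ L) (hs : s ≠ 0) :
    Nonempty (L ≅ Coh.structureModule X) := by
  haveI := Crv77.isNoetherian_of_proper k X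
  obtain ⟨y, hy⟩ := exists_mem_genLocus_of_ne_zero hL hs
  suffices htop : CohB1.genLocus L s = ⊤ from
    ParaF26.nonempty_iso_unit ((Amp73.isFrame_iff_le_genLocus s ⊤).2 htop.ge)
  by_contra hne
  obtain ⟨x, hxU, hx⟩ : ∃ x, x ∉ CohB1.genLocus L s ∧ IsClosed ({x} : Set X) := by
    have hC : IsClosed ((CohB1.genLocus L s : Set X)ᶜ) := (CohB1.genLocus L s).2.isClosed_compl
    have hCne : ((CohB1.genLocus L s : Set X)ᶜ).Nonempty := by
      rw [Set.nonempty_compl]
      exact fun h => hne (Opens.ext h)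
    obtain ⟨x, hx, hxc⟩ := IsClosed.exists_closed_singleton (S := _) hC hCne
    exact ⟨x, hx, hxc⟩
  obtain ⟨z, hzx, hzU, hdim⟩ := exists_curve_point k _ ⟨y, hy⟩ hx hxU
  let ι := Cyc90.clι z
  letI : (Cyc90.cl z).Over (Spec (CommRingCat.of k)) := ⟨ι ≫ (X ↘ Spec (CommRingCat.of k))⟩
  haveI : IsProper (Cyc90.cl z ↘ Spec (CommRingCat.of k)) :=
    inferInstanceAs (IsProper (ι ≫ (X ↘ Spec (CommRingCat.of k))))
  haveI := Crv77.isNoetherian_of_proper k (Cyc90.cl z)
  have hY : topologicalKrullDim (Cyc90.cl z) = 1 := by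
    rw [← hdim, ← Cyc90.range_clι z]
    exact IsHomeomorph.topologicalKrullDim_eq _ ι.isClosedEmbedding.isEmbedding.toHomeomorph.isHomeomorph
  have hY1 : topologicalKrullDim (Cyc90.cl z) ≤ (1 : ℕ) := by exact_mod_cast hY.le
  have hL' := Amp73.isInvertible_pullback ι hL
  have hdeg : Curv2.deg k (Cyc90.cl z) ((Scheme.Modules.pullback ι).obj L) 1 = 0 := by
    have h := hnum (Cyc90.cl z) ι inferInstance hY
    rw [Pic13.curveDeg] at h
    change FGA.eulerCharLE k (Cyc90.cl z) _ 1 - FGA.eulerCharLE k (Cyc90.cl z) _ 1 = 0 at h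
    rw [FGA29.eulerCharLE_eq_euler k hY1 (Amp73.isCoh_of_isInvertible hL'),
      FGA29.eulerCharLE_eq_euler k hY1 Crv77.isCoh_structureModule] at h
    simpa [Curv2.deg] using h
  let s' := Amp73.pullHom ι s
  have hgp : genericPoint (Cyc90.cl z) ∈ CohB1.genLocus _ s' := by
    rw [Amp73.genLocus_pullHom ι hL]
    show ι (genericPoint (Cyc90.cl z)) ∈ CohB1.genLocus L s
    rw [Cyc90.clι_genericPoint]
    exact hzU
  have hs' : s'.app ⊤ (1 : Γ(Cyc90.cl z, ⊤)) ≠ 0 := by
    intro h0
    obtain ⟨W, hW, e, he⟩ := Mero90.exists_frame' hL' (genericPoint (Cyc90.cl z))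
    have hz : (0 : Γ(Cyc90.cl z, W)) • e = val _ s' W := by
      rw [zero_smul, ← res_val _ s' (le_top : W ≤ ⊤), show val _ s' ⊤ = 0 from h0]
      simp [res]
    have hmem := (Amp73.genLocus_inf_eq_basicOpen s' he hz).le ⟨hgp, hW⟩
    rw [Scheme.basicOpen_zero] at hmem
    exact hmem
  have htop := genLocus_eq_top_of_deg_zero k (Crv77.curveCoh_of_proper k _ (by exact_mod_cast hY1)) (by exact_mod_cast hY1)
    hL' s' hs' hdeg
  obtain ⟨w, hw⟩ : x ∈ Set.range ι := by
    rw [Cyc90.range_clι]
    exact specializes_iff_mem_closure.1 hzx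
  have : w ∈ CohB1.genLocus _ s' := htop.ge trivial
  rw [Amp73.genLocus_pullHom ι hL] at this
  have h2 : ι w ∈ CohB1.genLocus L s := this
  rw [hw] at h2
  exact hxU h2

end Groth.Agent.Desc59.Pic
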