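import Groth.Agent.Desc59.Pic.RegPush
import Groth.Agent.Var76.RegExt

/-!
Regularity of an extension on a closed subscheme of projective space, read off from the direct image.
-/

universe u

open CategoryTheory Limits AlgebraicGeometry TopologicalSpace Opposite

noncomputable section

set_option maxSynthPendingDepth 6

namespace Groth.Agent.Desc59.Pic

open Var76.Reg Crv77

variable {k : Type u} [Field k] {n : ℕ} {X : Scheme.{u}} [X.Over (Spec (CommRingCat.of k))]
  (i : X ⟶ CohB1.ProjSpace n k) [IsClosedImmersion i]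
  (hi : i ≫ CohB1.ProjSpace.toSpec n k = X ↘ Spec (CommRingCat.of k)) {F : X.Modules}

include hi in
theorem finrank_twistOn (hF : Coh.IsCoh F) (d : ℤ) (q : ℕ) :
    Module.finrank k (Coh.HH X (Pic13.twistOn k i F d) q) =
      Module.finrank k (Coh.HH (CohB1.ProjSpace n k) (tw n k ((Coh.push i).obj F) d) q) := by
  have := isLocallyNoetherian_of_closed i
  have hT : Coh.IsCoh (Pic13.twistOn k i F d) := Amp73.isCoh_tensorMod hF
    (Amp73.isCoh_of_isInvertible (Amp73.isInvertible_pullback i (isInvertible_twist (n := n) (A := k) d)))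
  have := hT.1
  have : IsProper (CohB1.ProjSpace n k ↘ Spec (CommRingCat.of k)) := Serre71.isProper_projSpace n k
  obtain ⟨f⟩ := Var76.nonempty_hhLin_push (A := k) i hi (Pic13.twistOn k i F d)
    (QC70.isCoh_pushforward i _ hT).1 q
  exact ((hEquiv k (pushTwistIso i F d) q).trans f).finrank_eq.symm

omit [X.Over (Spec (CommRingCat.of k))] in
theorem exists_push_ext {G : X.Modules} (hF : Coh.IsCoh F) (hG : Coh.IsCoh G)
    (f : Pic13.twistOn k i F (-1) ⟶ F) (g : F ⟶ G) (hfg : f ≫ g = 0) (hS : (ShortComplex.mk f g hfg).ShortExact) :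
    ∃ (ι : tw n k ((Coh.push i).obj F) (-1) ⟶ (Coh.push i).obj F) (_ : Mono ι),
      Nonempty (cokernel ι ≅ (Coh.push i).obj G) := by
  have hadd : (Coh.push i).Additive := inferInstanceAs (Scheme.Modules.pushforward i).Additive
  have : (Coh.push i).IsRightAdjoint := (Scheme.Modules.pullbackPushforwardAdjunction i).isRightAdjoint
  have := hS.epi_g
  have := hS.mono_f
  have hepi : Epi ((Coh.push i).map g) := Var76.Reg.epi_push_map i g hF.1 hG.1
  have hmap : (ShortComplex.mk f g hfg).map (Coh.push i) |>.Exact := by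
    refine ShortComplex.exact_of_f_is_kernel _ ?_
    exact isLimitForkMapOfIsLimit' (Coh.push i) hfg hS.exact.fIsKernel
  have hS' : ((ShortComplex.mk f g hfg).map (Coh.push i)).ShortExact :=
    { exact := hmap, mono_f := inferInstanceAs (Mono ((Coh.push i).map f)), epi_g := hepi }
  refine ⟨(pushTwistIso i F (-1)).hom ≫ (Coh.push i).map f, mono_comp _ _, ⟨?_⟩⟩
  exact cokernelEpiComp _ _ ≪≫ IsColimit.coconePointUniqueUpToIso (cokernelIsCokernel _) hS'.gIsCokernel

include hi in
theorem cohomology_bounds {G : X.Modules} (hF : Coh.IsCoh F) (hG : Coh.IsCoh G)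
    (f : Pic13.twistOn k i F (-1) ⟶ F) (g : F ⟶ G) (hfg : f ≫ g = 0) (hS : (ShortComplex.mk f g hfg).ShortExact)
    (m : ℤ) (hGm : Pic13.IsMRegular k i G m) :
    (∀ (q : ℕ) (n' : ℤ), 2 ≤ q → m - q ≤ n' → Subsingleton (Coh.HH X (Pic13.twistOn k i F n') q)) ∧
    (∀ n' : ℤ, m - 1 ≤ n' →
      Module.finrank k (Coh.HH X (Pic13.twistOn k i F n') 1) ≤ Module.finrank k (Coh.HH X (Pic13.twistOn k i F (n' - 1)) 1)) ∧
    (∀ n' : ℤ, (m - 1) + (Module.finrank k (Coh.HH X (Pic13.twistOn k i F (m - 1)) 1) : ℤ) ≤ n' →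
      Subsingleton (Coh.HH X (Pic13.twistOn k i F n') 1)) ∧
    Pic13.IsMRegular k i F (m + Module.finrank k (Coh.HH X (Pic13.twistOn k i F (m - 1)) 1)) := by
  obtain ⟨ι, _, ⟨e⟩⟩ := exists_push_ext i hF hG f g hfg hS
  have hr : Reg n k (cokernel ι) m := reg_of_iso e ((isMRegular_iff_reg i hG m).1 hGm)
  have hP := isCoh_push i hF
  rw [finrank_twistOn i hi hF (m - 1) 1]
  refine ⟨fun q n' hq hn => (subsingleton_twistOn_iff i hF.1 n' q).2 (ext_vanish_high hP ι hr hq hn), fun n' hn => ?_,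
    fun n' hn => (subsingleton_twistOn_iff i hF.1 n' 1).2 (ext_h1_vanish hP ι hr hn),
    (isMRegular_iff_reg i hF _).2 (ext_reg hP ι hr)⟩
  rw [finrank_twistOn i hi hF n' 1, finrank_twistOn i hi hF (n' - 1) 1]
  exact ext_h1_le hP ι hr hn

end Groth.Agent.Desc59.Pic
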