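import Groth.Agent.Var76.MumPush
import Groth.Agent.Var76.RegGen
import Groth.Agent.Coh69.AffinePush
import Groth.Prelude.Def_Pic13

/-!
Regularity on a closed subscheme of projective space, read off from the direct image.
-/

universe u

open CategoryTheory Limits AlgebraicGeometry TopologicalSpace Opposite

noncomputable section

set_option maxSynthPendingDepth 6

namespace Groth.Agent.Desc59.Pic

open Var76.Reg Crv77

variable {k : Type u} [Field k] {n : ℕ} {X : Scheme.{u}} (i : X ⟶ CohB1.ProjSpace n k) [IsClosedImmersion i]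
  {F : X.Modules}

/-- The projection formula for a twist. -/
def pushTwistIso (F : X.Modules) (d : ℤ) :
    tw n k ((Coh.push i).obj F) d ≅ (Coh.push i).obj (Pic13.twistOn k i F d) :=
  ValVan29.projIso i F _ (isInvertible_twist d)

omit [IsClosedImmersion i] in
theorem isQCoh_twistOn (hF : Coh.IsQCoh F) (d : ℤ) : Coh.IsQCoh (Pic13.twistOn k i F d) :=
  Amp73.isQCoh_tensorMod hF
    (Mero90.isQCoh_of_isInvertible (Amp73.isInvertible_pullback i (isInvertible_twist (n := n) (A := k) d)))

theorem isCoh_push (hF : Coh.IsCoh F) : Coh.IsCoh ((Coh.push i).obj F) :=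
  have := isLocallyNoetherian_of_closed i
  QC70.isCoh_pushforward i _ hF

theorem subsingleton_twistOn_iff (hF : Coh.IsQCoh F) (d : ℤ) (q : ℕ) :
    Subsingleton (Coh.HH X (Pic13.twistOn k i F d) q) ↔
      Subsingleton (Coh.HH (CohB1.ProjSpace n k) (tw n k ((Coh.push i).obj F) d) q) := by
  have : (Pic13.twistOn k i F d).IsQuasicoherent := isQCoh_twistOn i hF d
  obtain ⟨e⟩ := Coh69.nonempty_hh_push i (Pic13.twistOn k i F d) q
  have e' := hEquiv k (pushTwistIso i F d) q
  exact (e.trans e'.toAddEquiv.symm).toEquiv.subsingleton_congr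

theorem isMRegular_iff_reg (hF : Coh.IsCoh F) (m : ℤ) :
    Pic13.IsMRegular k i F m ↔ Reg n k ((Coh.push i).obj F) m :=
  ⟨fun h q hq => (subsingleton_twistOn_iff i hF.1 _ q).1 (h q hq),
    fun h q hq => (subsingleton_twistOn_iff i hF.1 _ q).2 (h q hq)⟩

theorem isGloballyGenerated_twistOn (hF : Coh.IsCoh F) {d : ℤ}
    (h : Spanned (tw n k ((Coh.push i).obj F) d)) : Curv2.IsGloballyGenerated (Pic13.twistOn k i F d) := by
  refine Amp73.isGloballyGenerated_of_spanAt (isQCoh_twistOn i hF.1 d) fun x => ?_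
  obtain ⟨U, hxU, hU, hsp⟩ := h (i x)
  have hsp' := Amp73.spanAt_of_iso (pushTwistIso i F d).hom hsp
  refine ⟨i ⁻¹ᵁ U, hxU, hU.preimage i, eq_top_iff.2 fun z _ => ?_⟩
  let P := (Coh.push i).obj (Pic13.twistOn k i F d)
  refine Submodule.span_induction (p := fun (y : Γ(P, U)) _ => (show Γ(Pic13.twistOn k i F d, i ⁻¹ᵁ U) from y) ∈
    Submodule.span Γ(X, i ⁻¹ᵁ U) _) ?_ (zero_mem _) (fun _ _ _ _ ha hb => add_mem ha hb) ?_
    (hsp'.ge (Submodule.mem_top (x := (show Γ(P, U) from z))))
  · rintro _ ⟨t, rfl⟩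
    exact Submodule.subset_span ⟨t, rfl⟩
  · intro a y _ hy
    rw [QCqs72.pushforward_smul]
    exact Submodule.smul_mem _ _ hy

end Groth.Agent.Desc59.Pic
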