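import Groth.Agent.RigDesc25.Descend
import Groth.Agent.Desc59.Pic.FppfTrivMain
import Groth.Agent.An92.Ample.Inverse
import Groth.Prelude.Def_AbDual

/-!
Rigidified classes satisfy descent for a faithfully flat morphism of the base.
-/

set_option autoImplicit false
set_option backward.isDefEq.respectTransparency false
set_option backward.isDefEq.respectTransparency.types false
set_option linter.style.haveILetI false

noncomputable section

universe u

open CategoryTheory Limits AlgebraicGeometry Opposite TopologicalSpace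

namespace Groth.Agent.Desc59.Pic

/-- A fibre product of base changes is a base change. -/
theorem isPullback_map {X U A₁ A₂ W₁ W₂ : Scheme.{u}} {π : X ⟶ U} {a₁ : A₁ ⟶ X} {g₁ : A₁ ⟶ W₁}
    {v₁ : W₁ ⟶ U} {a₂ : A₂ ⟶ X} {g₂ : A₂ ⟶ W₂} {v₂ : W₂ ⟶ U}
    (H₁ : IsPullback a₁ g₁ π v₁) (H₂ : IsPullback a₂ g₂ π v₂) :
    IsPullback (pullback.fst a₁ a₂ ≫ a₁) (pullback.map a₁ a₂ v₁ v₂ g₁ g₂ π H₁.w H₂.w) π
      (pullback.fst v₁ v₂ ≫ v₁) := by
  refine IsPullback.paste_horiz ?_ H₁
  refine IsPullback.of_bot (v₂₁ := pullback.snd v₁ v₂) (v₂₂ := v₁) (h₃₁ := v₂) ?_ ?_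
    (IsPullback.of_hasPullback v₁ v₂)
  · rw [pullback.lift_snd, ← H₁.w]
    exact IsPullback.paste_vert (IsPullback.of_hasPullback a₁ a₂) H₂
  · exact (pullback.lift_fst _ _ _).symm

/-- Base changes of the structure morphism are bijective on global functions. -/
theorem bijective_appTop_of_isPullback {X S P W : Scheme.{u}} {f : X ⟶ S}
    (ha : ∀ (T : Over S) (U : T.left.Opens), IsIso ((PicF.XTproj f T).app U)) {k : P ⟶ X} {g : P ⟶ W}
    {w : W ⟶ S} (H : IsPullback k g f w) : Function.Bijective g.appTop := by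
  haveI := ha (Over.mk w) ⊤
  haveI : IsIso (pullback.snd f w).appTop := inferInstanceAs (IsIso ((PicF.XTproj f (Over.mk w)).app ⊤))
  rw [← H.isoPullback_hom_snd, Scheme.Hom.comp_appTop]
  exact ConcreteCategory.bijective_of_isIso _

/-- A section of a morphism bijective on global functions is bijective on global functions. -/
theorem bijective_appTop_of_section {P W : Scheme.{u}} {g : P ⟶ W} (hg : Function.Bijective g.appTop)
    {s : W ⟶ P} (hs : s ≫ g = 𝟙 W) : Function.Bijective s.appTop := by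
  have h : ∀ t, s.appTop (g.appTop t) = t := fun t => by
    rw [← ConcreteCategory.comp_apply, ← Scheme.Hom.comp_appTop, hs]
    simp
  refine (Function.Bijective.of_comp_iff _ hg).1 ?_
  have : (s.appTop : _ → _) ∘ g.appTop = id := funext h
  rw [this]
  exact Function.bijective_id

/-- An invertible module is detected after an fpqc morphism. -/
theorem isInvertible_of_pullback_fpqc {X X' : Scheme.{u}} (c : X' ⟶ X) [Flat c] [Surjective c] [IsFpqcMor c]
    (M : X.Modules) [M.IsQuasicoherent] (h : PicF.IsInvertible ((Scheme.Modules.pullback c).obj M)) :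
    PicF.IsInvertible M := by
  haveI := quasiCompactCover_of_fpqc c
  have h1 := LimTop61.isFinLocFreeOfRank_iff.mp (Mero90.isFinLocFreeOfRank_of_isInvertible h)
  have hl : FlatMod.IsFinLocFree M := ModDesc.isFinLocFree_of_pullback (ι := PUnit.{u + 1}) (fun _ => c)
    (fun _ => inferInstance) M fun _ => h1.1
  have h2 : FlatMod.IsFinLocFreeOfRank 1 M := LimTop61.isFinLocFreeOfRank_iff.mpr ⟨hl, fun x => by
    obtain ⟨x', rfl⟩ := c.surjective x
    exact (LimTop61.stalkRk_pullback c hl x').symm.trans (h1.2 x')⟩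
  intro x
  obtain ⟨U, hx, ⟨ψ⟩⟩ := h2 x
  exact ⟨U, hx, ⟨ψ ≪≫ coproductUniqueIso fun _ : Fin 1 => Coh.structureModule (↑U : Scheme.{u})⟩⟩

/-- comparison of iterated inverse images -/
def pullIso {A B C D : Scheme.{u}} {a : A ⟶ B} {b : B ⟶ D} {c : A ⟶ C} {d : C ⟶ D} (h : a ≫ b = c ≫ d)
    (M : D.Modules) : (Scheme.Modules.pullback a).obj ((Scheme.Modules.pullback b).obj M) ≅
      (Scheme.Modules.pullback c).obj ((Scheme.Modules.pullback d).obj M) :=
  (Scheme.Modules.pullbackComp a b).app M ≪≫ (Scheme.Modules.pullbackCongr h).app M ≪≫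
    ((Scheme.Modules.pullbackComp c d).app M).symm

/-- comparison with the inverse image along a composite -/
def pullIso₁ {A B D : Scheme.{u}} {a : A ⟶ B} {b : B ⟶ D} {c : A ⟶ D} (h : a ≫ b = c)
    (M : D.Modules) : (Scheme.Modules.pullback a).obj ((Scheme.Modules.pullback b).obj M) ≅
      (Scheme.Modules.pullback c).obj M :=
  (Scheme.Modules.pullbackComp a b).app M ≪≫ (Scheme.Modules.pullbackCongr h).app M

/-- inverse image of a tensor product of invertible modules -/
def pullTens {A B : Scheme.{u}} (a : A ⟶ B) {M N : B.Modules} (hM : PicF.IsInvertible M)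
    (hN : PicF.IsInvertible N) : (Scheme.Modules.pullback a).obj (CohB1.tensorMod M N) ≅
      CohB1.tensorMod ((Scheme.Modules.pullback a).obj M) ((Scheme.Modules.pullback a).obj N) :=
  @asIso _ _ _ _ _ (Amp73.isIso_pullTensHom a hM hN)

theorem cl_eq_cl_iff {Y : Scheme.{u}} {A B : Y.Modules} :
    PicF.cl A = PicF.cl B ↔ Nonempty (A ≅ B) := by
  refine ⟨fun h => ?_, fun h => Quot.sound h⟩
  have heq : Equivalence fun A B : Y.Modules => Nonempty (A ≅ B) :=
    ⟨fun _ => ⟨Iso.refl _⟩, fun ⟨e⟩ => ⟨e.symm⟩, fun ⟨e⟩ ⟨e'⟩ => ⟨e ≪≫ e'⟩⟩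
  exact heq.eqvGen_iff.mp (Quot.eqvGen_exact h)

end Groth.Agent.Desc59.Pic
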