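import Groth.Agent.Desc59.Pic.RigBase

/-!
Descent of rigidified invertible modules along a faithfully flat morphism of the base.
-/

set_option autoImplicit false
set_option backward.isDefEq.respectTransparency false
set_option backward.isDefEq.respectTransparency.types false
set_option linter.style.haveILetI false
set_option linter.unusedSectionVars false

noncomputable section

universe u

open CategoryTheory Limits AlgebraicGeometry Opposite TopologicalSpace

namespace Groth.Agent.Desc59.Pic

variable {X S T U : Scheme.{u}} {f : X ⟶ S}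
  (ha : ∀ (T : Over S) (U : T.left.Opens), IsIso ((PicF.XTproj f T).app U))
  {XT XU : Scheme.{u}} {k : XT ⟶ X} {π : XT ⟶ T} {t : T ⟶ S} (HT : IsPullback k π f t)
  {s : T ⟶ XT} (hs : s ≫ π = 𝟙 T)
  {p : XU ⟶ XT} {πU : XU ⟶ U} {v : U ⟶ T} (HU : IsPullback p πU π v)
  {sU : U ⟶ XU} (hsU : sU ≫ πU = 𝟙 U) (hsp : sU ≫ p = v ≫ s)
  [Flat v] [Surjective v] [IsFpqcMor v]

include ha HT HU hsU hsp in
theorem bijective_sU : Function.Bijective sU.appTop :=
  bijective_appTop_of_section (bijective_appTop_of_isPullback ha (HU.paste_horiz HT)) hsU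

include ha HT HU hsU hsp in
theorem bijective_sec₂ : Function.Bijective (RigDesc25.sec₂ p v s sU hsp).appTop := by
  refine bijective_appTop_of_section
    (bijective_appTop_of_isPullback ha ((isPullback_map HU HU).paste_horiz HT)) ?_
  apply pullback.hom_ext <;> simp [RigDesc25.sec₂, hsU]

include ha HT HU hsU hsp in
theorem bijective_sec₃ : Function.Bijective (RigDesc25.sec₃ p v s sU hsp).appTop := by
  have HL : IsPullback (pullback.fst p p) (pullback.map p p v v πU πU π HU.w HU.w) πU (pullback.fst v v) := by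
    refine IsPullback.of_right ?_ (pullback.lift_fst _ _ _).symm HU
    exact isPullback_map HU HU
  have HR : IsPullback (pullback.snd p p) (pullback.map p p v v πU πU π HU.w HU.w) πU (pullback.snd v v) := by
    refine IsPullback.of_right ?_ (pullback.lift_snd _ _ _).symm HU
    rw [← pullback.condition, ← pullback.condition]
    exact isPullback_map HU HU
  refine bijective_appTop_of_section
    (bijective_appTop_of_isPullback ha (((isPullback_map HR HL).paste_horiz HU).paste_horiz HT)) ?_
  apply pullback.hom_ext <;> apply pullback.hom_ext <;> simp [RigDesc25.sec₃, RigDesc25.sec₂, hsU]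

include ha HT HU hsU hsp in
/-- Uniqueness. -/
theorem rigidified_unique {M M' : XT.Modules} (hM : PicF.IsInvertible M) (hM' : PicF.IsInvertible M')
    (α : Nonempty ((Scheme.Modules.pullback s).obj M ≅ (Scheme.Modules.pullback s).obj M'))
    (ψ : Nonempty ((Scheme.Modules.pullback p).obj M ≅ (Scheme.Modules.pullback p).obj M')) :
    Nonempty (M ≅ M') := by
  haveI : Flat p := MorphismProperty.of_isPullback (P := @Flat) HU.flip inferInstance
  haveI : IsFpqcMor p := IsFpqcMor.of_isPullback HU.flip
  haveI := quasiCompactCover_of_fpqc p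
  exact RigDesc25.nonempty_iso_descend p v s sU hsp (bijective_sU ha HT HU hsU hsp)
    (bijective_sec₂ ha HT HU hsU hsp).1 M M' hM hM' α ψ

include ha HT hs HU hsU hsp in
/-- Existence. -/
theorem rigidified_exists {L : XU.Modules} (hL : PicF.IsInvertible L)
    (hr : Nonempty ((Scheme.Modules.pullback sU).obj L ≅ Coh.structureModule U))
    (hiso : Nonempty ((Scheme.Modules.pullback (pullback.fst p p)).obj L ≅
      (Scheme.Modules.pullback (pullback.snd p p)).obj L)) :
    ∃ M : XT.Modules, PicF.IsInvertible M ∧ Nonempty ((Scheme.Modules.pullback s).obj M ≅ Coh.structureModule T) ∧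
      Nonempty ((Scheme.Modules.pullback p).obj M ≅ L) := by
  haveI : Flat p := MorphismProperty.of_isPullback (P := @Flat) HU.flip inferInstance
  haveI : Surjective p := MorphismProperty.of_isPullback (P := @Surjective) HU.flip inferInstance
  haveI : IsFpqcMor p := IsFpqcMor.of_isPullback HU.flip
  haveI := quasiCompactCover_of_fpqc p
  obtain ⟨M, hMq, ⟨e⟩⟩ := RigDesc25.exists_descend p v s sU hsp (bijective_sec₂ ha HT HU hsU hsp)
    (bijective_sec₃ ha HT HU hsU hsp).1 L hL hr hiso
  haveI := hMq
  have hM : PicF.IsInvertible M := isInvertible_of_pullback_fpqc p M (EGA73.isInvertible_of_iso e.symm hL)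
  obtain ⟨r⟩ := hr
  let N := (Scheme.Modules.pullback s).obj M
  have hN : PicF.IsInvertible N := Amp73.isInvertible_pullback s hM
  obtain ⟨N', hN', ⟨ν⟩⟩ := An92.InvMod.exists_inverse hN
  have hπN' : PicF.IsInvertible ((Scheme.Modules.pullback π).obj N') := Amp73.isInvertible_pullback π hN'
  have hvN : (Scheme.Modules.pullback v).obj N ≅ Coh.structureModule U :=
    pullIso hsp.symm M ≪≫ (Scheme.Modules.pullback sU).mapIso e ≪≫ r
  have hvN' : (Scheme.Modules.pullback v).obj N' ≅ Coh.structureModule U :=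
    (EGA73.tensUnitRight _).symm ≪≫ EGA73.tensIso (Iso.refl _) hvN.symm ≪≫ (pullTens v hN' hN).symm ≪≫
      (Scheme.Modules.pullback v).mapIso ν ≪≫ PicLoc.pullbackStructureIso v
  have hsπ : (Scheme.Modules.pullback s).obj ((Scheme.Modules.pullback π).obj N') ≅ N' :=
    pullIso₁ hs N' ≪≫ (Scheme.Modules.pullbackId T).app N'
  refine ⟨CohB1.tensorMod M ((Scheme.Modules.pullback π).obj N'), EGA73.isInvertible_tensorMod hM hπN', ⟨?_⟩, ⟨?_⟩⟩
  · exact pullTens s hM hπN' ≪≫ EGA73.tensIso (Iso.refl _) hsπ ≪≫ EGA73.tensComm _ _ ≪≫ ν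
  · exact pullTens p hM hπN' ≪≫ EGA73.tensIso e (pullIso HU.w N' ≪≫ (Scheme.Modules.pullback πU).mapIso hvN' ≪≫
      PicLoc.pullbackStructureIso πU) ≪≫ EGA73.tensUnitRight L

omit ha HT hs HU hsU hsp in
theorem isPullback_XTmap (T : Over S) {U : Scheme.{u}} (v : U ⟶ T.left) :
    IsPullback (PicF.XTmap f (AbDual.ovrHom T v)) (pullback.snd f (AbDual.ovr T v).hom) (pullback.snd f T.hom) v := by
  refine IsPullback.of_right (h₁₂ := pullback.fst f T.hom) (h₂₂ := T.hom) ?_ (pullback.lift_snd _ _ _)
    (IsPullback.of_hasPullback f T.hom)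
  have e : PicF.XTmap f (AbDual.ovrHom T v) ≫ pullback.fst f T.hom = pullback.fst f (AbDual.ovr T v).hom :=
    (pullback.lift_fst _ _ _).trans (Category.comp_id _)
  rw [e]
  exact IsPullback.of_hasPullback f (v ≫ T.hom)

omit ha HT hs HU hsU hsp in
theorem secT_XTmap (σ : S ⟶ X) (hσ : σ ≫ f = 𝟙 S) (T : Over S) {U : Scheme.{u}} (v : U ⟶ T.left) :
    PicF.secT f σ hσ (AbDual.ovr T v) ≫ PicF.XTmap f (AbDual.ovrHom T v) = v ≫ PicF.secT f σ hσ T := by
  apply pullback.hom_ext
  · rw [Category.assoc, show PicF.XTmap f (AbDual.ovrHom T v) ≫ pullback.fst f T.hom =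
      pullback.fst f (AbDual.ovr T v).hom from (pullback.lift_fst _ _ _).trans (Category.comp_id _), Category.assoc]
    refine (pullback.lift_fst _ _ _).trans ?_
    rw [PicF.secT, pullback.lift_fst]
    exact Category.assoc _ _ _
  · rw [Category.assoc, show PicF.XTmap f (AbDual.ovrHom T v) ≫ pullback.snd f T.hom =
      pullback.snd f (AbDual.ovr T v).hom ≫ v from pullback.lift_snd _ _ _, Category.assoc]
    refine (pullback.lift_snd_assoc _ _ _ _).trans ?_
    rw [PicF.secT, pullback.lift_snd]
    exact (Category.id_comp _).trans (Category.comp_id _).symm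

end Groth.Agent.Desc59.Pic
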