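import Groth.Agent.LimTop61.StalkLimit
import Groth.Agent.LimTop61.BaseChange
import Groth.Agent.PicLim95.Basic
import Groth.Agent.Amp73.PullTensor

/-!
Invertible modules on the base change to the local ring at a point extend to a neighbourhood.
-/

set_option autoImplicit false
set_option backward.isDefEq.respectTransparency false
set_option backward.defeqAttrib.useBackward true
set_option linter.style.haveILetI false

universe u

open CategoryTheory CategoryTheory.Limits AlgebraicGeometry Opposite TopologicalSpace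

noncomputable section

namespace Groth.Agent.Desc59.Pic

open LimTop61

theorem exists_invertible_nhd {X S : Scheme.{u}} (f : X ⟶ S) [QuasiCompact f] [QuasiSeparated f] (s : S)
    (L : (pullback f (S.fromSpecStalk s)).Modules) (hL : PicF.IsInvertible L) :
    ∃ (V : S.Opens) (_ : s ∈ V) (L' : (↑(f ⁻¹ᵁ V) : Scheme.{u}).Modules), PicF.IsInvertible L' ∧
      ∀ (ι : pullback f (S.fromSpecStalk s) ⟶ ↑(f ⁻¹ᵁ V)),
        ι ≫ (f ⁻¹ᵁ V).ι = pullback.fst f (S.fromSpecStalk s) →
        Nonempty ((Scheme.Modules.pullback ι).obj L' ≅ L) := by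
  let D := nhdSpec S s
  let c := nhdCone S s
  have hc : IsLimit c := isLimitNhdCone S s
  let ι : ∀ l, D.obj l ⟶ S := fun l => (nhdι S s).app l
  have hι : ∀ l, IsOpenImmersion (ι l) := fun l => (OrderDual.ofDual l.unop).1.2.isOpenImmersion_fromSpec
  have hιn : ∀ {l k} (φ : k ⟶ l), D.map φ ≫ ι l = ι k := fun φ => by
    have := (nhdι S s).naturality φ
    simp only [Functor.const_obj_map, Category.comp_id] at this
    exact this
  have hπ : ∀ l, c.π.app l ≫ ι l = S.fromSpecStalk s := nhdCone_π_ι S s
  obtain ⟨i⟩ := IsCofiltered.nonempty (C := (AffineNhd S s)ᵒᵖ)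
  let pj : pullback f (ι i) ⟶ D.obj i := pullback.snd f (ι i)
  have : CompactSpace (pullback f (ι i) : Scheme.{u}) := QuasiCompact.compactSpace_of_compactSpace pj
  have : QuasiSeparatedSpace (pullback f (ι i) : Scheme.{u}) := quasiSeparatedSpace_of_quasiSeparated pj
  let Xy := pullback f (S.fromSpecStalk s)
  let py : Xy ⟶ c.pt := pullback.snd f (S.fromSpecStalk s)
  let q : Xy ⟶ pullback f (ι i) :=
    pullback.lift (pullback.fst f (S.fromSpecStalk s)) (py ≫ c.π.app i)
      (by rw [Category.assoc, hπ, pullback.condition])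
  have hq : IsPullback q py pj (c.π.app i) := by
    refine IsPullback.of_right ?_ (pullback.lift_snd _ _ _) (IsPullback.of_hasPullback f (ι i))
    rw [pullback.lift_fst, hπ]
    exact IsPullback.of_hasPullback f (S.fromSpecStalk s)
  let E := bcDiagram D pj
  let cE := bcCone D c pj q py hq.w
  have hcE : IsLimit cE := isLimitBcCone D c hc pj q py hq
  haveI : ∀ k, QuasiSeparatedSpace (E.obj k) := fun k => by
    haveI : IsAffineHom (pullback.fst pj (D.map k.hom)) :=
      MorphismProperty.pullback_fst (P := @IsAffineHom) pj (D.map k.hom) inferInstance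
    exact quasiSeparatedSpace_of_quasiSeparated (pullback.fst pj (D.map k.hom))
  obtain ⟨k, M, hM, ⟨e⟩⟩ := PicLim95.exists_invertible_stage (D := E) (c := cE) hcE L hL
  haveI := hι k.left
  haveI := hι i
  let pk : E.obj k ⟶ D.obj k.left := pullback.snd pj (D.map k.hom)
  let m : E.obj k ⟶ X := pullback.fst pj (D.map k.hom) ≫ pullback.fst f (ι i)
  have hm : IsPullback m pk f (ι k.left) := by
    have h := (IsPullback.of_hasPullback pj (D.map k.hom)).paste_horiz (IsPullback.of_hasPullback f (ι i))
    rw [hιn] at h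
    exact h
  haveI : IsOpenImmersion m := MorphismProperty.of_isPullback (P := @IsOpenImmersion) hm.flip (hι k.left)
  let V : S.Opens := (ι k.left).opensRange
  have hsV : s ∈ V := by
    refine ⟨c.π.app k.left (IsLocalRing.closedPoint (S.presheaf.stalk s)), ?_⟩
    rw [← Scheme.Hom.comp_apply, hπ]
    exact Scheme.fromSpecStalk_closedPoint
  have hrange : Set.range (f ⁻¹ᵁ V).ι ⊆ Set.range m := by
    rw [Scheme.Opens.range_ι, ← hm.isoPullback_hom_fst, Scheme.Hom.comp_base, TopCat.coe_comp, Set.range_comp,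
      Set.range_eq_univ.mpr hm.isoPullback.hom.surjective, Set.image_univ, Scheme.Pullback.range_fst]
    exact subset_rfl
  let θ : (↑(f ⁻¹ᵁ V) : Scheme.{u}) ⟶ E.obj k := IsOpenImmersion.lift m (f ⁻¹ᵁ V).ι hrange
  refine ⟨V, hsV, (Scheme.Modules.pullback θ).obj M, Amp73.isInvertible_pullback θ hM, fun ι' hι' => ?_⟩
  have hθ : ι' ≫ θ = cE.π.app k := by
    rw [← cancel_mono m, Category.assoc, IsOpenImmersion.lift_fac, hι']
    simp [cE, m, q]
  exact ⟨(Scheme.Modules.pullbackComp ι' θ).app M ≪≫ (Scheme.Modules.pullbackCongr hθ).app M ≪≫ e⟩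

end Groth.Agent.Desc59.Pic
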