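import Groth.Agent.CAlg8.Swan
import Groth.Agent.AWN93.Scheme
import Groth.Agent.Cyc90.Horiz.Chart
import Groth.Agent.QCTens72.Basic
import Groth.Agent.An92.Ample.Inverse
import Groth.Agent.Rib52.Conormal
import Groth.Agent.Amp73.PullTensor
import Groth.Agent.ParaF26.Open
import Groth.Agent.SymPhi99.Classes

/-!
Invertible modules on the product of a seminormal scheme with the affine line.
-/

set_option autoImplicit false
set_option backward.isDefEq.respectTransparency.types false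
set_option linter.style.haveILetI false

universe u

open CategoryTheory CategoryTheory.Limits AlgebraicGeometry TopologicalSpace Opposite TensorProduct
open scoped Groth.Agent.FGA29 Polynomial

noncomputable section

namespace Groth.Agent.Desc59.Pic

open Var76.LineBundle Var76.ZeroScheme
open Amp73 (pullS)

theorem seminormal_localization {A B : Type u} [CommRing A] [CommRing B] [Algebra A B] (M : Submonoid A)
    [IsLocalization M B] (h : HTop.IsSeminormalRing A) : HTop.IsSeminormalRing B := by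
  haveI := AWN93.isReduced_of_seminormal h
  haveI : IsReduced B := isReduced_localizationPreserves M B ‹_›
  refine AWN93.seminormal_of_exists fun x y hxy => ?_
  obtain ⟨⟨a, s⟩, ha⟩ := IsLocalization.surj M x
  obtain ⟨⟨b, t⟩, hb⟩ := IsLocalization.surj M y
  dsimp only at ha hb
  set S := algebraMap A B (s : A)
  set T := algebraMap A B (t : A)
  have hX : algebraMap A B (a * s * t ^ 2) = x * (S * T) ^ 2 := by
    rw [map_mul, map_mul, map_pow, ← ha]; ring
  have hY : algebraMap A B (b * s ^ 3 * t ^ 2) = y * (S * T) ^ 3 := by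
    rw [map_mul, map_mul, map_pow, map_pow, ← hb]; ring
  obtain ⟨⟨w, hw⟩, hweq⟩ := IsLocalization.exists_of_eq (M := M) (S := B)
    (x := (a * s * t ^ 2) ^ 3) (y := (b * s ^ 3 * t ^ 2) ^ 2)
    (by rw [map_pow _ _ 3, map_pow _ _ 2, hX, hY, mul_pow, mul_pow, hxy]; ring)
  dsimp only at hweq
  obtain ⟨c, hc1, hc2⟩ := (h (w ^ 2 * (a * s * t ^ 2)) (w ^ 3 * (b * s ^ 3 * t ^ 2))
    (by linear_combination w ^ 5 * hweq)).exists
  obtain ⟨v, hv⟩ := (((IsLocalization.map_units B ⟨w, hw⟩).mul ((IsLocalization.map_units B s).mul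
    (IsLocalization.map_units B t)))).exists_right_inv
  change algebraMap A B w * (S * T) * v = 1 at hv
  refine ⟨algebraMap A B c * v, ?_, ?_⟩
  · rw [mul_pow, ← map_pow, ← hc1, map_mul, map_pow, hX]
    linear_combination (-x * (algebraMap A B w * (S * T) * v + 1)) * hv
  · rw [mul_pow, ← map_pow, ← hc2, map_mul, map_pow, hY]
    linear_combination (-y * ((algebraMap A B w * (S * T) * v) ^ 2 + algebraMap A B w * (S * T) * v + 1)) * hv

/-- An invertible module over a polynomial ring over a seminormal ring is monogenic near each prime of the base. -/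
theorem exists_generator_near {R B : Type u} [CommRing R] [CommRing B] (hsn : HTop.IsSeminormalRing R)
    (e : Polynomial R ≃+* B) (M : Type u) [AddCommGroup M] [Module B M] [Module.Invertible B M]
    (q : Ideal R) [q.IsPrime] :
    ∃ h : R, h ∉ q ∧ ∃ m : M, ∀ y : M, ∃ r : B, e (Polynomial.C h) • y = r • m := by
  classical
  let Rq := Localization.AtPrime q
  let S := Polynomial Rq
  letI : Algebra (Polynomial R) S := Polynomial.algebra R Rq
  haveI : IsLocalization (q.primeCompl.map (Polynomial.C : R →+* Polynomial R)) S :=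
    Polynomial.isLocalization q.primeCompl Rq
  letI : Algebra B S := ((algebraMap (Polynomial R) S).comp e.symm.toRingHom).toAlgebra
  let Sm : Submonoid B := (q.primeCompl.map (Polynomial.C : R →+* Polynomial R)).map e
  haveI : IsLocalization Sm S := IsLocalization.isLocalization_of_base_ringEquiv _ S e
  haveI : Module.Free S (S ⊗[B] M) :=
    CAlg8.Swan.free_of_invertible (R := Rq) (seminormal_localization q.primeCompl hsn) (S ⊗[B] M)
  obtain ⟨ι⟩ := Module.Invertible.free_iff_linearEquiv.1 ‹Module.Free S (S ⊗[B] M)›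
  haveI : IsLocalizedModule Sm (TensorProduct.mk B S M 1) :=
    (isLocalizedModule_iff_isBaseChange Sm S _).2 (TensorProduct.isBaseChange B M S)
  obtain ⟨⟨m, s₀⟩, hm⟩ := IsLocalizedModule.surj Sm (TensorProduct.mk B S M 1) (ι.symm 1)
  change (s₀ : B) • ι.symm 1 = TensorProduct.mk B S M 1 m at hm
  have hgen : ∀ y : M, ∃ h ∈ q.primeCompl, ∃ r : B, e (Polynomial.C h) • y = r • m := fun y => by
    obtain ⟨v, hv⟩ := (IsLocalization.map_units S s₀).exists_right_inv
    let c : S := ι (TensorProduct.mk B S M 1 y) * v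
    have hc : TensorProduct.mk B S M 1 y = c • TensorProduct.mk B S M 1 m := by
      apply ι.injective
      rw [map_smul, ← hm, ← algebraMap_smul S (s₀ : B) (ι.symm 1), map_smul, ι.apply_symm_apply]
      simp only [c, smul_eq_mul, mul_one]
      rw [mul_assoc, mul_comm v, hv, mul_one]
    obtain ⟨⟨r, s⟩, hr⟩ := IsLocalization.surj Sm c
    dsimp only at hr
    have h2 : TensorProduct.mk B S M 1 ((s : B) • y) = TensorProduct.mk B S M 1 (r • m) := by
      rw [map_smul, map_smul, hc, ← algebraMap_smul S (s : B), ← algebraMap_smul S r, smul_smul, mul_comm, hr]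
    obtain ⟨t, ht⟩ := IsLocalizedModule.exists_of_eq (S := Sm) h2
    obtain ⟨_, ⟨g₁, hg₁, rfl⟩, hs⟩ := s.2
    obtain ⟨_, ⟨g₂, hg₂, rfl⟩, ht2⟩ := t.2
    refine ⟨g₂ * g₁, q.primeCompl.mul_mem hg₂ hg₁, (t : B) * r, ?_⟩
    rw [map_mul, map_mul, mul_smul, mul_smul]
    change e (Polynomial.C g₂) • e (Polynomial.C g₁) • y = _
    rw [show e (Polynomial.C g₁) = (s : B) from hs, show e (Polynomial.C g₂) = (t : B) from ht2]
    exact ht
  choose h hh r hr using hgen
  obtain ⟨T, hT⟩ := Module.Finite.fg_top (R := B) (M := M)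
  refine ⟨T.prod h, fun hm' => ?_, m, fun y => ?_⟩
  · obtain ⟨x, -, hx⟩ := ((inferInstance : q.IsPrime).prod_mem_iff).1 hm'
    exact hh x hx
  · have hy : y ∈ Submodule.span B (T : Set M) := hT.symm ▸ Submodule.mem_top
    induction hy using Submodule.span_induction with
    | mem z hz =>
      obtain ⟨c, hc⟩ := Finset.dvd_prod_of_mem h hz
      exact ⟨e (Polynomial.C c) * r z, by rw [hc, mul_comm (h z), map_mul, map_mul, mul_smul, hr, mul_smul]⟩
    | zero => exact ⟨0, by rw [smul_zero, zero_smul]⟩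
    | add a b _ _ ha hb =>
      obtain ⟨ra, ha⟩ := ha; obtain ⟨rb, hb⟩ := hb
      exact ⟨ra + rb, by rw [smul_add, ha, hb, add_smul]⟩
    | smul c a _ ha =>
      obtain ⟨ra, ha⟩ := ha
      exact ⟨c * ra, by rw [smul_comm, ha, mul_smul]⟩

variable {P : Scheme.{u}}

/-- Sections of an invertible module over an affine open form an invertible module. -/
theorem invertible_sections {L : P.Modules} (hL : PicF.IsInvertible L) {U : P.Opens} (hU : IsAffineOpen U) :
    Module.Invertible Γ(P, U) Γ(L, U) := by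
  obtain ⟨N, hN, ⟨i⟩⟩ := An92.InvMod.exists_inverse hL
  haveI := Mero90.isQCoh_of_isInvertible hL
  haveI := Mero90.isQCoh_of_isInvertible hN
  let e₁ := (QCTens72.sectionsTensorEquiv L N hU).symm
  let e₂ : Γ(CohB1.tensorMod L N, U) ≃ₗ[Γ(P, U)] Γ(Coh.structureModule P, U) :=
    LinearEquiv.ofBijective
      { toFun := fun x => (EGA73.tensComm L N ≪≫ i).hom.app U x
        map_add' := map_add _
        map_smul' := fun a x => Scheme.Modules.Hom.app_smul _ _ _ }
      (ConcreteCategory.bijective_of_isIso ((EGA73.tensComm L N ≪≫ i).hom.app U))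
  exact Module.Invertible.left ((e₁.trans e₂).trans (LinearEquiv.refl Γ(P, U) Γ(P, U)))

/-- A section generating the sections over an affine open is a frame there. -/
theorem isFrame_of_surjective {L : P.Modules} (hL : PicF.IsInvertible L) {U : P.Opens} (hU : IsAffineOpen U)
    {e : Γ(L, U)} (he : Function.Surjective fun a : Γ(P, U) => a • e) : IsFrame L U e := by
  haveI := Mero90.isQCoh_of_isInvertible hL
  refine Rib52.isFrame_of_basis e fun V hV y hy => ?_
  obtain ⟨g, hgV, hyg⟩ := hU.exists_basicOpen_le ⟨y, hy⟩ (hV hy)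
  refine ⟨P.basicOpen g, P.basicOpen_le g, hgV, hyg, ?_⟩
  haveI := invertible_sections hL (hU.basicOpen g)
  refine Module.Invertible.bijective_of_surjective (R := Γ(P, P.basicOpen g))
    (f := LinearMap.toSpanSingleton Γ(P, P.basicOpen g) Γ(L, P.basicOpen g) (res L (P.basicOpen_le g) e)) fun m => ?_
  obtain ⟨n, t, ht⟩ := (QC70.isLocAt_of_isQuasicoherent L hU).exists_of g m
  obtain ⟨a, ha⟩ := he t
  obtain ⟨v, hv⟩ : ∃ v : Γ(P, P.basicOpen g), v * fres (P.basicOpen_le g) g ^ n = 1 :=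
    ((RingedSpace.isUnit_res_basicOpen P.toRingedSpace g).pow n).exists_left_inv
  refine ⟨v * fres (P.basicOpen_le g) a, ?_⟩
  rw [LinearMap.toSpanSingleton_apply, mul_smul, ← res_smul]
  refine (congrArg (fun z => v • res L (P.basicOpen_le g) z) ha).trans ?_
  refine (congrArg (v • ·) ht).trans ?_
  rw [smul_smul]
  exact (congrArg (· • m) hv).trans (one_smul _ m)

variable {k : Type u} [Field k] {X : Scheme.{u}} {f : X ⟶ Spec (CommRingCat.of k)}
  {p₁ : P ⟶ X} {p₂ : P ⟶ Spec (CommRingCat.of (Polynomial k))}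
  (hP : IsPullback p₁ p₂ f (Spec.map (CommRingCat.ofHom (Polynomial.C : k →+* Polynomial k))))
include hP

theorem isAffineHom_proj : IsAffineHom p₁ := MorphismProperty.of_isPullback hP.flip inferInstance

/-- Functions over an affine open of the base. -/
theorem exists_ringEquiv {U : X.Opens} (hU : IsAffineOpen U) :
    ∃ e : Polynomial Γ(X, U) ≃+* Γ(P, p₁ ⁻¹ᵁ U), ∀ a, e (Polynomial.C a) = p₁.app U a := by
  obtain ⟨j, σ, hj, hj₁, -, hrange⟩ := Cyc90.Horiz.exists_chart hP U hU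
  let c := CommRingCat.ofHom (Polynomial.C : Γ(X, U) →+* Polynomial Γ(X, U))
  have hO : j ''ᵁ ⊤ = p₁ ⁻¹ᵁ U := by
    rw [Scheme.Hom.image_top_eq_opensRange]
    refine le_antisymm ?_ fun v hv => hrange v hv
    rintro _ ⟨w, rfl⟩
    show p₁ (j w) ∈ U
    rw [← Scheme.Hom.comp_apply, hj₁, Scheme.Hom.comp_apply]
    exact hU.range_fromSpec.le ⟨_, rfl⟩
  have hle : (⊤ : (Spec (CommRingCat.of (Polynomial Γ(X, U)))).Opens) ≤ j ⁻¹ᵁ (p₁ ⁻¹ᵁ U) :=
    fun w _ => hO.le ⟨w, trivial, rfl⟩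
  haveI : IsIso (j.appLE (p₁ ⁻¹ᵁ U) ⊤ hle) := by
    have h1 : ∀ (O : P.Opens) (_ : j ''ᵁ ⊤ = O) (h : (⊤ : (Spec (CommRingCat.of (Polynomial Γ(X, U)))).Opens) ≤ j ⁻¹ᵁ O),
        IsIso (j.appLE O ⊤ h) := by
      rintro _ rfl h
      rw [← Scheme.Hom.appIso_hom']
      infer_instance
    exact h1 _ hO hle
  let i : Γ(P, p₁ ⁻¹ᵁ U) ≅ CommRingCat.of (Polynomial Γ(X, U)) :=
    asIso (j.appLE (p₁ ⁻¹ᵁ U) ⊤ hle) ≪≫ Scheme.ΓSpecIso _
  have key : p₁.app U ≫ i.hom = c := by
    have h1 : p₁.app U ≫ j.appLE (p₁ ⁻¹ᵁ U) ⊤ hle = (Scheme.ΓSpecIso _).inv ≫ (Spec.map c).appTop := by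
      have h2 : (Spec.map c ≫ hU.fromSpec).appLE U ⊤ (by rw [← hj₁]; exact hle) =
          (Scheme.ΓSpecIso _).inv ≫ (Spec.map c).appTop := by
        rw [Scheme.Hom.comp_appLE, hU.fromSpec_app_self, Category.assoc, Scheme.Hom.map_appLE,
          Scheme.Hom.appTop, Scheme.Hom.app_eq_appLE]
        rfl
      rw [← Scheme.Hom.comp_appLE, ← h2]
      congr 1
    show p₁.app U ≫ j.appLE (p₁ ⁻¹ᵁ U) ⊤ hle ≫ (Scheme.ΓSpecIso _).hom = c
    rw [← Category.assoc, h1, Category.assoc, Scheme.ΓSpecIso_naturality, Iso.inv_hom_id_assoc]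
  refine ⟨i.symm.commRingCatIsoToRingEquiv, fun a => ?_⟩
  show i.inv (c a) = p₁.app U a
  rw [← key]
  show (p₁.app U ≫ i.hom ≫ i.inv) a = p₁.app U a
  rw [Iso.hom_inv_id, Category.comp_id]

omit hP in
theorem isFrame_of_iso {L : P.Modules} (i : L ≅ Coh.structureModule P) :
    IsFrame L ⊤ (val L i.inv ⊤) := by
  refine (Amp73.isIso_restrict_map_iff i.inv ⊤).1 ?_
  infer_instance

/-- An invertible module on the product with the line which is trivial on the zero section is trivial. -/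
theorem nonempty_iso_of_section_trivial [X.IsSeparated] (hsn : HTop.IsSeminormal X) (z : X ⟶ P) (hz : z ≫ p₁ = 𝟙 X)
    {N : P.Modules} (hN : PicF.IsInvertible N)
    (hN0 : Nonempty ((Scheme.Modules.pullback z).obj N ≅ Coh.structureModule X)) :
    Nonempty (N ≅ Coh.structureModule P) := by
  obtain ⟨i₀⟩ := hN0
  haveI := isAffineHom_proj hP
  haveI := Mero90.isQCoh_of_isInvertible hN
  let Z := (Scheme.Modules.pullback z).obj N
  let e₀ : Γ(Z, ⊤) := val Z i₀.inv ⊤
  have he₀ : IsFrame Z ⊤ e₀ := isFrame_of_iso i₀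
  have hzU : ∀ U : X.Opens, z ⁻¹ᵁ (p₁ ⁻¹ᵁ U) = U := fun U => by
    rw [← Scheme.Hom.comp_preimage, hz]; rfl
  have hzp : ∀ (U : X.Opens) (a : Γ(X, U)),
      X.presheaf.map (homOfLE (hzU U).ge).op (z.app (p₁ ⁻¹ᵁ U) (p₁.app U a)) = a := fun U a => by
    have h1 : p₁.app U ≫ z.app (p₁ ⁻¹ᵁ U) ≫ X.presheaf.map (homOfLE (hzU U).ge).op = 𝟙 _ := by
      rw [Scheme.Hom.app_eq_appLE p₁, Scheme.Hom.app_eq_appLE z, Scheme.Hom.appLE_map,
        Scheme.Hom.appLE_comp_appLE]
      simp only [hz]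
      simp [Scheme.Hom.appLE]
      exact (Category.id_comp _).trans (X.presheaf.map_id _)
    exact ConcreteCategory.congr_hom h1 a
  have huniq : ∀ (W : X.Opens) (a b : Γ(N, p₁ ⁻¹ᵁ W)), IsFrame N _ a → IsFrame N _ b →
      res Z (hzU W).ge (pullS z N _ a) = res Z (hzU W).ge (pullS z N _ b) → a = b := fun W a b ha hb hab => by
    refine eq_of_locally N _ _ fun y hy => ?_
    obtain ⟨V, hV, hyV, hVW⟩ := exists_isAffineOpen_mem_and_subset (U := W) (x := p₁ y) hy
    have hle : p₁ ⁻¹ᵁ V ≤ p₁ ⁻¹ᵁ W := p₁.preimage_mono hVW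
    refine ⟨p₁ ⁻¹ᵁ V, hle, hyV, ?_⟩
    have hb' := hb.res hle
    obtain ⟨c, hc⟩ := (hb' _ le_rfl).2 (res N hle a)
    dsimp only at hc
    rw [Amp73.res_self] at hc
    have hcu : IsUnit c := (Amp73.isFrame_smul_iff hb' c).1 (hc ▸ ha.res hle)
    obtain ⟨e, he⟩ := exists_ringEquiv hP hV
    haveI : _root_.IsReduced Γ(X, V) :=
      AWN93.isReduced_of_seminormal ((AWN93.isSeminormal_iff X).1 hsn ⟨V, hV⟩)
    obtain ⟨r, hr⟩ : ∃ r, e.symm c = Polynomial.C r :=
      ⟨_, Polynomial.eq_C_of_natDegree_eq_zero (Nat.eq_zero_of_not_pos fun hd =>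
        Polynomial.not_isUnit_of_natDegree_pos_of_isReduced _ hd (hcu.map e.symm))⟩
    have hcr : c = p₁.app V r := by rw [← he, ← hr, e.apply_symm_apply]
    have h1 : res Z (hzU V).ge (pullS z N _ (res N hle a)) = res Z (hzU V).ge (pullS z N _ (res N hle b)) := by
      rw [← Amp73.res_pullS z N hle a, ← Amp73.res_pullS z N hle b, res_res, res_res]
      have := congrArg (res Z hVW) hab
      rwa [res_res, res_res] at this
    rw [← hc, Amp73.pullS_smul, res_smul, hcr, hzp] at h1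
    have h2 : r = 1 := by
      refine (((Amp73.isFrame_pullS z hN hb').res (hzU V).ge) V le_rfl).1 ?_
      dsimp only
      rw [Amp73.res_self, one_smul]
      exact h1
    rw [← hc, hcr, h2, map_one, one_smul]
  have hloc : ∀ x : X, ∃ (W : X.Opens) (e : Γ(N, p₁ ⁻¹ᵁ W)), x ∈ W ∧ IsFrame N _ e ∧
      res Z (hzU W).ge (pullS z N _ e) = res Z le_top e₀ := fun x => by
    obtain ⟨U, hU, hxU, -⟩ := exists_isAffineOpen_mem_and_subset (U := (⊤ : X.Opens)) (x := x) trivial
    obtain ⟨e, he⟩ := exists_ringEquiv hP hU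
    have hO : IsAffineOpen (p₁ ⁻¹ᵁ U) := hU.preimage p₁
    haveI := invertible_sections hN hO
    obtain ⟨h, hhq, m, hm⟩ := exists_generator_near ((AWN93.isSeminormal_iff X).1 hsn ⟨U, hU⟩) e Γ(N, p₁ ⁻¹ᵁ U)
      (hU.primeIdealOf ⟨x, hxU⟩).asIdeal
    let W := X.basicOpen h
    have hxW : x ∈ W := by
      have h1 : hU.primeIdealOf ⟨x, hxU⟩ ∈ hU.fromSpec ⁻¹ᵁ W := by
        rw [hU.fromSpec_preimage_basicOpen]; exact hhq
      have h2 : hU.fromSpec (hU.primeIdealOf ⟨x, hxU⟩) ∈ W := h1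
      rwa [hU.fromSpec_primeIdealOf] at h2
    have hWb : p₁ ⁻¹ᵁ W = P.basicOpen (p₁.app U h) := Scheme.preimage_basicOpen _ _
    have hle : P.basicOpen (p₁.app U h) ≤ p₁ ⁻¹ᵁ U := P.basicOpen_le _
    have hfr : IsFrame N (P.basicOpen (p₁.app U h)) (res N hle m) := by
      refine isFrame_of_surjective hN (hO.basicOpen _) fun y => ?_
      obtain ⟨n, t, ht⟩ := (QC70.isLocAt_of_isQuasicoherent N hO).exists_of (p₁.app U h) y
      obtain ⟨r, hr⟩ := hm t
      rw [he] at hr
      obtain ⟨v, hv⟩ : ∃ v : Γ(P, P.basicOpen (p₁.app U h)), v * fres hle (p₁.app U h) ^ (n + 1) = 1 :=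
        ((RingedSpace.isUnit_res_basicOpen P.toRingedSpace (p₁.app U h)).pow (n + 1)).exists_left_inv
      refine ⟨v * fres hle r, ?_⟩
      dsimp only
      rw [mul_smul, ← res_smul, ← hr, res_smul]
      refine (congrArg (fun z => v • fres hle (p₁.app U h) • z) ht).trans ?_
      rw [smul_smul, smul_smul, mul_assoc]
      refine Eq.trans ?_ ((congrArg (· • y) hv).trans (one_smul _ y))
      rw [pow_succ']
    let a : Γ(N, p₁ ⁻¹ᵁ W) := res N hWb.le (res N hle m)
    have ha : IsFrame N (p₁ ⁻¹ᵁ W) a := hfr.res hWb.le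
    have hza : IsFrame Z W (res Z (hzU W).ge (pullS z N _ a)) := (Amp73.isFrame_pullS z hN ha).res (hzU W).ge
    obtain ⟨v, hv⟩ := (hza W le_rfl).2 (res Z le_top e₀)
    dsimp only at hv
    rw [Amp73.res_self] at hv
    have hvu : IsUnit v := (Amp73.isFrame_smul_iff hza v).1 (hv ▸ he₀.res le_top)
    refine ⟨W, p₁.app W v • a, hxW, (Amp73.isFrame_smul_iff ha _).2 (hvu.map _), ?_⟩
    rw [Amp73.pullS_smul, res_smul, hzp]
    exact hv
  choose W e hxW hfr hnorm using hloc
  have compat : TopCat.Presheaf.IsCompatible N.presheaf (fun x : X => p₁ ⁻¹ᵁ W x) e := fun x y => by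
    refine huniq (W x ⊓ W y) _ _ ((hfr x).res _) ((hfr y).res _) ?_
    have l₁ : p₁ ⁻¹ᵁ (W x ⊓ W y) ≤ p₁ ⁻¹ᵁ W x := p₁.preimage_mono inf_le_left
    have l₂ : p₁ ⁻¹ᵁ (W x ⊓ W y) ≤ p₁ ⁻¹ᵁ W y := p₁.preimage_mono inf_le_right
    show res Z _ (pullS z N _ (res N l₁ (e x))) = res Z _ (pullS z N _ (res N l₂ (e y)))
    rw [← Amp73.res_pullS z N l₁, ← Amp73.res_pullS z N l₂, res_res, res_res]
    have h1 := congrArg (res Z (inf_le_left : W x ⊓ W y ≤ W x)) (hnorm x)
    have h2 := congrArg (res Z (inf_le_right : W x ⊓ W y ≤ W y)) (hnorm y)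
    rw [res_res, res_res] at h1 h2
    exact h1.trans h2.symm
  obtain ⟨g, hg, -⟩ := TopCat.Sheaf.existsUnique_gluing' (⟨N.presheaf, N.isSheaf⟩ : TopCat.Sheaf _ P.toTopCat)
    (fun x : X => p₁ ⁻¹ᵁ W x) ⊤ (fun x => homOfLE le_top)
    (fun y _ => Opens.mem_iSup.2 ⟨p₁ y, hxW (p₁ y)⟩) e compat
  refine ParaF26.nonempty_iso_unit (e := (g : Γ(N, ⊤))) (Amp73.isFrame_of_locally _ fun y _ => ?_)
  refine ⟨p₁ ⁻¹ᵁ W (p₁ y), le_top, hxW (p₁ y), ?_⟩
  have h1 : res N (le_top : p₁ ⁻¹ᵁ W (p₁ y) ≤ ⊤) (g : Γ(N, ⊤)) = e (p₁ y) := hg (p₁ y)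
  exact h1.symm ▸ hfr (p₁ y)

/-- Pullback to the product with the line is bijective on invertible classes. -/
theorem bijOn_pullCl [X.IsSeparated] (hsn : HTop.IsSeminormal X) :
    Set.BijOn (PicF.pullCl p₁) {c : PicF.Cl X | PicF.IsInvertibleCl c} {c : PicF.Cl P | PicF.IsInvertibleCl c} := by
  let z : X ⟶ P := hP.lift (𝟙 X) (f ≫ Spec.map (CommRingCat.ofHom (Polynomial.evalRingHom (0 : k)))) (by
    rw [Category.id_comp, Category.assoc, ← Spec.map_comp]
    have : CommRingCat.ofHom (Polynomial.C : k →+* Polynomial k) ≫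
        CommRingCat.ofHom (Polynomial.evalRingHom (0 : k)) = 𝟙 _ := by
      ext a; simp
    rw [this, Spec.map_id, Category.comp_id])
  have hz : z ≫ p₁ = 𝟙 X := hP.lift_fst _ _ _
  have hback : ∀ c : PicF.Cl X, PicF.pullCl z (PicF.pullCl p₁ c) = c := fun c =>
    Quot.inductionOn c fun L => Quot.sound ⟨(Scheme.Modules.pullbackComp z p₁).app L ≪≫
      (Scheme.Modules.pullbackCongr hz).app L ≪≫ (Scheme.Modules.pullbackId X).app L⟩
  refine ⟨?_, fun a _ b _ h => by rw [← hback a, ← hback b, h], ?_⟩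
  · rintro _ ⟨L, rfl, hL⟩
    exact ⟨_, rfl, Amp73.isInvertible_pullback _ hL⟩
  rintro _ ⟨N, rfl, hN⟩
  let M := (Scheme.Modules.pullback z).obj N
  have hM : PicF.IsInvertible M := Amp73.isInvertible_pullback z hN
  obtain ⟨M', hM', ⟨i⟩⟩ := An92.InvMod.exists_inverse hM
  have hpM' := Amp73.isInvertible_pullback p₁ hM'
  let N' := CohB1.tensorMod N ((Scheme.Modules.pullback p₁).obj M')
  have hN' : PicF.IsInvertible N' := EGA73.isInvertible_tensorMod hN hpM'
  have h1 : PicF.cl M' * PicF.cl M = 1 := Quot.sound ⟨i⟩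
  have hcl : PicF.pullCl z (PicF.cl N') = 1 := by
    rw [FGA29.cl_tensor, SymPhi99.pullCl_mul z ⟨N, rfl, hN⟩ ⟨_, rfl, hpM'⟩,
      show PicF.cl ((Scheme.Modules.pullback p₁).obj M') = PicF.pullCl p₁ (PicF.cl M') from rfl, hback]
    rw [mul_comm]
    exact h1
  have htriv : PicF.cl N' = 1 := Quot.sound (nonempty_iso_of_section_trivial hP hsn z hz hN'
    (FGA29.nonempty_iso_of_cl (L := (Scheme.Modules.pullback z).obj N') (M := Coh.structureModule X) hcl))
  refine ⟨PicF.cl M, ⟨M, rfl, hM⟩, ?_⟩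
  have h2 : PicF.pullCl p₁ (PicF.cl M) * PicF.pullCl p₁ (PicF.cl M') = 1 := by
    rw [← SymPhi99.pullCl_mul p₁ ⟨M, rfl, hM⟩ ⟨M', rfl, hM'⟩, mul_comm, h1, SymPhi99.pullCl_one]
  calc PicF.pullCl p₁ (PicF.cl M) = PicF.pullCl p₁ (PicF.cl M) * PicF.cl N' := by rw [htriv, mul_one]
    _ = PicF.cl N * (PicF.pullCl p₁ (PicF.cl M) * PicF.pullCl p₁ (PicF.cl M')) := by
      rw [FGA29.cl_tensor]; exact mul_left_comm _ _ _
    _ = PicF.cl N := by rw [h2, mul_one]

end Groth.Agent.Desc59.Pic
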