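import Groth.Agent.Desc59.Pic.FamEuler
import Groth.Agent.SymPhi99.Classes

/-!
τ-equivalence to zero implies numerical triviality.
-/

set_option autoImplicit false
set_option backward.isDefEq.respectTransparency.types false
set_option linter.style.haveILetI false

universe u

open CategoryTheory CategoryTheory.Limits AlgebraicGeometry TopologicalSpace
open scoped Groth.Agent.FGA29

noncomputable section

namespace Groth.Agent.Desc59.Pic

variable (k : Type u) [Field k] {X : Scheme.{u}} [X.Over (Spec (CommRingCat.of k))]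
  [IsProper (X ↘ Spec (CommRingCat.of k))]

theorem eulerCharLE_tensorPow_tau {d : ℕ} (hd : topologicalKrullDim X ≤ d) {L : X.Modules}
    (hL : PicF.IsInvertible L) (hτ : Pic13.IsTauEquivZero k X L) {F A : X.Modules} (hF : Coh.IsCoh F)
    (hA : Coh.IsCoh A) (m : ℕ) (h : PicF.cl A = PicF.cl L ^ m * PicF.cl F) :
    FGA.eulerCharLE k X A d = FGA.eulerCharLE k X F d := by
  rw [FGA29.eulerCharLE_eq_euler k hd hA, FGA29.eulerCharLE_eq_euler k hd hF,
    ← euler_tensor_of_tauEquivZero k hd hL hτ hF m]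
  exact FGA29.euler_cl k (by rw [h, FGA29.cl_tensor, FGA29.cl_tensorPow])

theorem isNumEquivZero_of_tau {L : X.Modules} (hL : PicF.IsInvertible L) (hτ : Pic13.IsTauEquivZero k X L) :
    Pic13.IsNumEquivZero k X L := by
  intro Y ι hι hint hdim
  letI : Y.Over (Spec (CommRingCat.of k)) := ⟨ι ≫ (X ↘ Spec (CommRingCat.of k))⟩
  haveI : IsProper (Y ↘ Spec (CommRingCat.of k)) :=
    inferInstanceAs (IsProper (ι ≫ (X ↘ Spec (CommRingCat.of k))))
  obtain ⟨n, hn, halg⟩ := hτ
  have hτ' : Pic13.IsTauEquivZero k Y ((Scheme.Modules.pullback ι).obj L) :=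
    ⟨n, hn, SymPhi99.isAlgEquivZero_pullback k _ (ι ≫ (X ↘ Spec (CommRingCat.of k))) ι rfl
      ⟨Amp73.pullPowIso ι hL n⟩ halg⟩
  have hd : topologicalKrullDim Y ≤ (1 : ℕ) := by exact_mod_cast hdim.le
  have hL' := Amp73.isInvertible_pullback ι hL
  show FGA.eulerCharLE k Y _ 1 - FGA.eulerCharLE k Y _ 1 = 0
  refine sub_eq_zero.2 (eulerCharLE_tensorPow_tau k hd hL' hτ' Crv77.isCoh_structureModule
    (Amp73.isCoh_of_isInvertible hL') 1 ?_)
  rw [pow_one, FGA29.cl_one, mul_one]

end Groth.Agent.Desc59.Pic
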