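import Groth.Agent.Desc59.Pic.UnitDatum

/-!
Transition units of a global frame of an inverse image.
-/

set_option autoImplicit false
set_option backward.isDefEq.respectTransparency false
set_option backward.isDefEq.respectTransparency.types false
set_option linter.style.haveILetI false

noncomputable section

universe u

open CategoryTheory Limits AlgebraicGeometry Opposite TopologicalSpace
open Groth.Agent.QC70 Groth.Agent.QCPull72 Groth.Agent.LimTop61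

namespace Groth.Agent.Desc59.Pic

open Var76.LineBundle (IsFrame)

variable {X X' : Scheme.{u}} {p : X' ⟶ X} {L : X.Modules} (hL : PicF.IsInvertible L)

include hL in
/-- Transition is transitive. -/
theorem tr_tr {T' T : Scheme.{u}} (g : T' ⟶ T) {a : T ⟶ X'} {q : T ⟶ X} {a' : T' ⟶ X'} {q' : T' ⟶ X}
    (ea : a ≫ p = q) (ega : g ≫ a = a') (ea' : a' ≫ p = q') (egq : g ≫ q = q') {V : X'.Opens} {W : T.Opens}
    (hW : W ≤ a ⁻¹ᵁ V) {W' : T'.Opens} (hg : W' ≤ g ⁻¹ᵁ W) (hW' : W' ≤ a' ⁻¹ᵁ V)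
    (y : Γ((Scheme.Modules.pullback p).obj L, V)) :
    QSheaf.tr egq L hg (QSheaf.tr ea L hW y) = QSheaf.tr ea' L hW' y := by
  refine section_ext _ _ _ fun x hx => ?_
  obtain ⟨U, hxU, l, hl⟩ := Mero90.exists_frame' hL (q' x)
  have hp := isFrame_unitSec p hL hl (inf_le_right : V ⊓ p ⁻¹ᵁ U ≤ p ⁻¹ᵁ U)
  obtain ⟨r, hr⟩ := (hp _ le_rfl).2 (res _ (inf_le_left : V ⊓ p ⁻¹ᵁ U ≤ V) y)
  dsimp only at hr
  rw [Amp73.res_self] at hr
  let O : T.Opens := W ⊓ q ⁻¹ᵁ U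
  let O' : T'.Opens := W' ⊓ q' ⁻¹ᵁ U
  have hO : O ≤ a ⁻¹ᵁ (V ⊓ p ⁻¹ᵁ U) := fun z hz =>
    ⟨hW hz.1, show p (a z) ∈ U by rw [← Scheme.Hom.comp_apply, ea]; exact hz.2⟩
  have hO' : O' ≤ a' ⁻¹ᵁ (V ⊓ p ⁻¹ᵁ U) := fun z hz =>
    ⟨hW' hz.1, show p (a' z) ∈ U by rw [← Scheme.Hom.comp_apply, ea']; exact hz.2⟩
  have hgO : O' ≤ g ⁻¹ᵁ O := fun z hz =>
    ⟨hg hz.1, show q (g z) ∈ U by rw [← Scheme.Hom.comp_apply, egq]; exact hz.2⟩
  refine ⟨O', inf_le_left, ⟨hx, hxU⟩, ?_⟩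
  rw [← QSheaf.tr_res egq L hg hgO (inf_le_left : O ≤ W) inf_le_left,
    ← QSheaf.tr_res ea L hW hO inf_le_left inf_le_left, ← QSheaf.tr_res ea' L hW' hO' inf_le_left inf_le_left,
    ← hr, QSheaf.tr_smul, QSheaf.tr_smul, QSheaf.tr_smul,
    QSheaf.tr_unitSec ea L inf_le_right hO inf_le_right,
    QSheaf.tr_unitSec ea' L inf_le_right hO' inf_le_right,
    QSheaf.tr_unitSec egq L inf_le_right hgO inf_le_right]
  refine congrArg (· • _) ?_
  subst ega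
  exact ConcreteCategory.congr_hom (Scheme.Hom.appLE_comp_appLE g a _ _ _ hO hgO) r

include hL in
theorem isFrame_tr {T : Scheme.{u}} {a : T ⟶ X'} {q : T ⟶ X} (ea : a ≫ p = q) {V : X'.Opens}
    {y : Γ((Scheme.Modules.pullback p).obj L, V)} (hy : IsFrame ((Scheme.Modules.pullback p).obj L) V y)
    {W : T.Opens} (hW : W ≤ a ⁻¹ᵁ V) :
    IsFrame ((Scheme.Modules.pullback q).obj L) W (QSheaf.tr ea L hW y) :=
  (Amp73.isFrame_app_iff ((pullbackCompIso p a ea).hom.app L) _).2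
    (isFrame_unitSec a (Amp73.isInvertible_pullback p hL) hy hW)

variable (e : Γ((Scheme.Modules.pullback p).obj L, (⊤ : X'.Opens)))

/-- `r` is the transition of `e` from `a` to `b`. -/
def IsTrans {T : Scheme.{u}} (a b : T ⟶ X') (q : T ⟶ X) (ea : a ≫ p = q) (eb : b ≫ p = q)
    (r : Γ(T, ⊤)ˣ) : Prop :=
  QSheaf.tr eb L (topLe b) e = (r : Γ(T, ⊤)) • QSheaf.tr ea L (topLe a) e

variable {e} (he : IsFrame ((Scheme.Modules.pullback p).obj L) ⊤ e)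

include hL he in
theorem existsUnique_isTrans {T : Scheme.{u}} (a b : T ⟶ X') (q : T ⟶ X) (ea : a ≫ p = q) (eb : b ≫ p = q) :
    ∃! r, IsTrans e a b q ea eb r := by
  obtain ⟨r, hr⟩ := PicH1x97.exists_unit (isFrame_tr hL ea he (topLe a)) (isFrame_tr hL eb he (topLe b))
  exact ⟨r, hr, fun r' hr' => PicH1x97.unit_eq (isFrame_tr hL ea he (topLe a)) (hr'.symm.trans hr)⟩

theorem IsTrans.trans {T : Scheme.{u}} {a b d : T ⟶ X'} {q : T ⟶ X} {ea : a ≫ p = q} {eb : b ≫ p = q}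
    {ed : d ≫ p = q} {r r' : Γ(T, ⊤)ˣ} (h : IsTrans e a b q ea eb r) (h' : IsTrans e b d q eb ed r') :
    IsTrans e a d q ea ed (r * r') := by
  unfold IsTrans at h h' ⊢
  rw [h', h, smul_smul, Units.val_mul, mul_comm]

include hL in
theorem IsTrans.pull {T' T : Scheme.{u}} (g : T' ⟶ T) {a b : T ⟶ X'} {q : T ⟶ X} {ea : a ≫ p = q}
    {eb : b ≫ p = q} {r : Γ(T, ⊤)ˣ} (h : IsTrans e a b q ea eb r) {a' b' : T' ⟶ X'} {q' : T' ⟶ X}
    {ea' : a' ≫ p = q'} {eb' : b' ≫ p = q'} (ega : g ≫ a = a') (egb : g ≫ b = b') :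
    IsTrans e a' b' q' ea' eb' (pullU g r) := by
  have egq : g ≫ q = q' := by rw [← ea', ← ega, Category.assoc, ea]
  unfold IsTrans at h ⊢
  rw [← tr_tr hL g eb egb eb' egq (topLe b) (topLe g) (topLe b') e, h, QSheaf.tr_smul,
    tr_tr hL g ea ega ea' egq (topLe a) (topLe g) (topLe a') e]
  rfl

end Groth.Agent.Desc59.Pic
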