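import Groth.Agent.Desc59.QEff.Glue
import Groth.Agent.EGA73.Invertible
import Groth.Agent.Amp73.Pullback
import Groth.Agent.Amp73.Local
import Groth.Agent.PicH1x97.Rel

/-!
Descent data on the structure sheaf given by cocycles of units, and transition units of frames.
-/

set_option autoImplicit false
set_option backward.isDefEq.respectTransparency false
set_option backward.isDefEq.respectTransparency.types false
set_option backward.defeqAttrib.useBackward true
set_option linter.style.haveILetI false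
set_option maxHeartbeats 400000

noncomputable section

universe u

open CategoryTheory Limits AlgebraicGeometry Opposite TopologicalSpace
open Groth.Agent.QC70 Groth.Agent.QCPull72 Groth.Agent.LimTop61

namespace Groth.Agent.Desc59.Pic

open Var76.LineBundle (IsFrame)

/-- inverse image of global units -/
def pullU {T' T : Scheme.{u}} (g : T' ⟶ T) : Γ(T, ⊤)ˣ →* Γ(T', ⊤)ˣ :=
  Units.map (g.appLE ⊤ ⊤ le_top).hom.toMonoidHom

theorem coe_pullU {T' T : Scheme.{u}} (g : T' ⟶ T) (u : Γ(T, ⊤)ˣ) :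
    ((pullU g u : Γ(T', ⊤)ˣ) : Γ(T', ⊤)) = g.appLE ⊤ ⊤ le_top (u : Γ(T, ⊤)) := rfl

theorem pullU_comp {T'' T' T : Scheme.{u}} (g' : T'' ⟶ T') (g : T' ⟶ T) (u : Γ(T, ⊤)ˣ) :
    pullU g' (pullU g u) = pullU (g' ≫ g) u := Units.ext (by
  rw [coe_pullU, coe_pullU, coe_pullU, ← ConcreteCategory.comp_apply, Scheme.Hom.appLE_comp_appLE])

theorem topLe {T Y : Scheme.{u}} (a : T ⟶ Y) : (⊤ : T.Opens) ≤ a ⁻¹ᵁ (⊤ : Y.Opens) := fun _ _ => trivial

/-- the canonical section of the inverse image of the structure sheaf -/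
abbrev eps {T Y : Scheme.{u}} (a : T ⟶ Y) : Γ((Scheme.Modules.pullback a).obj (Coh.structureModule Y), ⊤) :=
  unitSec a (Coh.structureModule Y) (topLe a)
    ((1 : Γ(Y, ⊤)) : Γ(Coh.structureModule Y, ⊤))

theorem unitSec_eq_smul_eps {T Y : Scheme.{u}} (a : T ⟶ Y) {U : Y.Opens} {W : T.Opens} (hW : W ≤ a ⁻¹ᵁ U)
    (s : Γ(Y, U)) :
    unitSec a (Coh.structureModule Y) hW (s : Γ(Coh.structureModule Y, U)) =
      a.appLE U W hW s • res _ (le_top : W ≤ ⊤) (eps a) := by
  rw [← unitSec_res a (Coh.structureModule Y) (topLe a) hW le_top le_top,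
    ← unitSec_smul]
  refine congrArg (unitSec a (Coh.structureModule Y) hW) ?_
  show s = s * (Y.presheaf.map (homOfLE (le_top : U ≤ ⊤)).op) 1
  rw [map_one, mul_one]

theorem hom_ext_eps {T Y : Scheme.{u}} (a : T ⟶ Y) {N : T.Modules}
    {φ φ' : (Scheme.Modules.pullback a).obj (Coh.structureModule Y) ⟶ N}
    (h : φ.app ⊤ (eps a) = φ'.app ⊤ (eps a)) : φ = φ' := by
  refine QEff.hom_ext_unitSec a fun U x => ?_
  let s : Γ(Y, U) := x
  rw [show x = (s : Γ(Coh.structureModule Y, U)) from rfl, unitSec_eq_smul_eps a (le_refl _) s,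
    Scheme.Modules.Hom.app_smul, Scheme.Modules.Hom.app_smul, app_res, app_res, h]

theorem isFrame_unitSec {T Y : Scheme.{u}} (a : T ⟶ Y) {M : Y.Modules} (hM : PicF.IsInvertible M)
    {V : Y.Opens} {e : Γ(M, V)} (he : IsFrame M V e) {W : T.Opens} (hW : W ≤ a ⁻¹ᵁ V) :
    IsFrame ((Scheme.Modules.pullback a).obj M) W (unitSec a M hW e) :=
  (Amp73.isFrame_pullS a hM he).res hW

theorem isFrame_eps {T Y : Scheme.{u}} (a : T ⟶ Y) :
    IsFrame ((Scheme.Modules.pullback a).obj (Coh.structureModule Y)) ⊤ (eps a) :=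
  isFrame_unitSec a EGA73.isInvertible_structureModule (Amp73.isFrame_one ⊤) _

/-- the morphism sending the canonical section to a given section -/
def epsHom {T Y : Scheme.{u}} (a : T ⟶ Y) (N : T.Modules) (t : Γ(N, ⊤)) :
    (Scheme.Modules.pullback a).obj (Coh.structureModule Y) ⟶ N :=
  ((Scheme.Modules.pullbackPushforwardAdjunction a).homEquiv _ _).symm
    (EGA73.unitHom ((Scheme.Modules.pushforward a).obj N) (show Γ((Scheme.Modules.pushforward a).obj N, ⊤) from t))

theorem epsHom_eps {T Y : Scheme.{u}} (a : T ⟶ Y) (N : T.Modules) (t : Γ(N, ⊤)) :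
    (epsHom a N t).app ⊤ (eps a) = t := by
  have h1 := ((Scheme.Modules.pullbackPushforwardAdjunction a).homEquiv _ _).apply_symm_apply
    (EGA73.unitHom ((Scheme.Modules.pushforward a).obj N) (show Γ((Scheme.Modules.pushforward a).obj N, ⊤) from t))
  rw [Adjunction.homEquiv_unit] at h1
  have h2 := congr(Scheme.Modules.Hom.app $h1 ⊤ ((1 : Γ(Y, ⊤)) : Γ(Coh.structureModule Y, ⊤)))
  have h3 : unitSec a (Coh.structureModule Y) (topLe a)
      ((1 : Γ(Y, ⊤)) : Γ(Coh.structureModule Y, ⊤)) =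
      ((Scheme.Modules.pullbackPushforwardAdjunction a).unit.app (Coh.structureModule Y)).app ⊤
        ((1 : Γ(Y, ⊤)) : Γ(Coh.structureModule Y, ⊤)) := QC70.res_self _
  rw [eps, h3]
  refine h2.trans ((EGA73.unitHom_app _ _ _ _).trans ?_)
  exact (one_smul _ _).trans (QC70.res_self _)

theorem conj_epsHom {T' T Y : Scheme.{u}} (g : T' ⟶ T) {a b : T ⟶ Y} {a' b' : T' ⟶ Y} (ega : g ≫ a = a')
    (egb : g ≫ b = b') (r : Γ(T, ⊤)) :
    (pullbackCompIso a g ega).inv.app (Coh.structureModule Y) ≫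
      (Scheme.Modules.pullback g).map (epsHom a ((Scheme.Modules.pullback b).obj (Coh.structureModule Y)) (r • eps b)) ≫
        (pullbackCompIso b g egb).hom.app (Coh.structureModule Y) =
      epsHom a' ((Scheme.Modules.pullback b').obj (Coh.structureModule Y)) (g.appLE ⊤ ⊤ (topLe g) r • eps b') := by
  let one : Γ((Coh.structureModule Y), (⊤ : Y.Opens)) := ((1 : Γ(Y, ⊤)) : Γ(Coh.structureModule Y, ⊤))
  have h1 : ((pullbackCompIso a g ega).inv.app (Coh.structureModule Y)).app ⊤ (eps a') =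
      unitSec g ((Scheme.Modules.pullback a).obj (Coh.structureModule Y)) (topLe g) (eps a) := by
    have e := QSheaf.tr_unitSec ega (Coh.structureModule Y) (topLe a) (topLe g) (topLe a') one
    have e2 := congr(Scheme.Modules.Hom.app $((pullbackCompIso a g ega).hom_inv_id_app (Coh.structureModule Y)) ⊤
        (unitSec g ((Scheme.Modules.pullback a).obj (Coh.structureModule Y)) (topLe g) (eps a)))
    exact (congrArg (((pullbackCompIso a g ega).inv.app (Coh.structureModule Y)).app ⊤) e.symm).trans e2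
  have h2 : ((pullbackCompIso b g egb).hom.app (Coh.structureModule Y)).app ⊤
      (unitSec g ((Scheme.Modules.pullback b).obj (Coh.structureModule Y)) (topLe g) (eps b)) = eps b' :=
    QSheaf.tr_unitSec egb (Coh.structureModule Y) (topLe b) (topLe g) (topLe b') one
  refine hom_ext_eps a' ?_
  rw [Scheme.Modules.Hom.comp_app, ConcreteCategory.comp_apply, Scheme.Modules.Hom.comp_app,
    ConcreteCategory.comp_apply, h1, epsHom_eps a' ((Scheme.Modules.pullback b').obj (Coh.structureModule Y))]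
  have h3 := QEff.pullback_map_unitSec g
    (epsHom a ((Scheme.Modules.pullback b).obj (Coh.structureModule Y)) (r • eps b)) (topLe g) (eps a)
  rw [epsHom_eps, unitSec_smul] at h3
  refine (congrArg _ h3).trans ((Scheme.Modules.Hom.app_smul _ _ _).trans ?_)
  exact congrArg (fun z => g.appLE ⊤ ⊤ (topLe g) r • z) h2

theorem comp_epsHom {T Y : Scheme.{u}} (a b d : T ⟶ Y) (r r' : Γ(T, ⊤)) :
    epsHom a ((Scheme.Modules.pullback b).obj (Coh.structureModule Y)) (r • eps b) ≫
      epsHom b ((Scheme.Modules.pullback d).obj (Coh.structureModule Y)) (r' • eps d) =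
      epsHom a ((Scheme.Modules.pullback d).obj (Coh.structureModule Y)) ((r * r') • eps d) := by
  refine hom_ext_eps a ?_
  rw [Scheme.Modules.Hom.comp_app, ConcreteCategory.comp_apply, epsHom_eps, Scheme.Modules.Hom.app_smul,
    epsHom_eps, smul_smul, epsHom_eps]

theorem epsHom_self {T Y : Scheme.{u}} (a : T ⟶ Y) :
    epsHom a ((Scheme.Modules.pullback a).obj (Coh.structureModule Y)) ((1 : Γ(T, ⊤)) • eps a) = 𝟙 _ := by
  refine hom_ext_eps a ?_
  rw [epsHom_eps, one_smul]
  rfl

variable {S S' : Scheme.{u}} (h : S' ⟶ S)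

/-- A cocycle of units on the pairs of points. -/
structure UCocycle where
  u : ∀ {T : Scheme.{u}} (a b : T ⟶ S'), a ≫ h = b ≫ h → Γ(T, ⊤)ˣ
  pull : ∀ {T' T : Scheme.{u}} (g : T' ⟶ T) (a b : T ⟶ S') (e : a ≫ h = b ≫ h) (a' b' : T' ⟶ S')
    (e' : a' ≫ h = b' ≫ h), g ≫ a = a' → g ≫ b = b' → pullU g (u a b e) = u a' b' e'
  comp : ∀ {T : Scheme.{u}} (a b c : T ⟶ S') (e₁ : a ≫ h = b ≫ h) (e₂ : b ≫ h = c ≫ h),
    u a b e₁ * u b c e₂ = u a c (e₁.trans e₂)

variable {h}

theorem UCocycle.self (c : UCocycle h) {T : Scheme.{u}} (a : T ⟶ S') : c.u a a rfl = 1 :=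
  mul_eq_left.1 (c.comp a a a rfl rfl)

/-- The gluing morphism of a cocycle of units. -/
def UCocycle.hom (c : UCocycle h) {T : Scheme.{u}} (a b : T ⟶ S') (e : a ≫ h = b ≫ h) :
    (Scheme.Modules.pullback a).obj (Coh.structureModule S') ⟶
      (Scheme.Modules.pullback b).obj (Coh.structureModule S') :=
  epsHom a _ ((c.u a b e : Γ(T, ⊤)) • eps b)

theorem UCocycle.hom_refl (c : UCocycle h) {T : Scheme.{u}} (a : T ⟶ S') : c.hom a a rfl = 𝟙 _ := by
  rw [UCocycle.hom, c.self, Units.val_one, epsHom_self]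

theorem UCocycle.hom_trans (c : UCocycle h) {T : Scheme.{u}} (a b d : T ⟶ S') (e : a ≫ h = b ≫ h)
    (e' : b ≫ h = d ≫ h) : c.hom a b e ≫ c.hom b d e' = c.hom a d (e.trans e') := by
  rw [UCocycle.hom, UCocycle.hom, UCocycle.hom, comp_epsHom, ← Units.val_mul, c.comp]

theorem UCocycle.hom_pull (c : UCocycle h) {T' T : Scheme.{u}} (g : T' ⟶ T) (a b : T ⟶ S')
    (e : a ≫ h = b ≫ h) (a' b' : T' ⟶ S') (e' : a' ≫ h = b' ≫ h) (ega : g ≫ a = a') (egb : g ≫ b = b') :
    (pullbackCompIso a g ega).inv.app (Coh.structureModule S') ≫ (Scheme.Modules.pullback g).map (c.hom a b e) ≫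
      (pullbackCompIso b g egb).hom.app (Coh.structureModule S') = c.hom a' b' e' := by
  rw [UCocycle.hom, conj_epsHom g ega egb, UCocycle.hom, ← c.pull g a b e a' b' e' ega egb]
  rfl

/-- The descent datum on the structure sheaf of a cocycle of units. -/
def UCocycle.datum (c : UCocycle h) : Desc.modPF.{u}.DescentData (fun _ : PUnit.{u + 1} => h) where
  obj _ := Coh.structureModule S'
  hom T q _ _ a b ea eb := c.hom a b (ea.trans eb.symm)
  pullHom_hom T' T g q q' hq i j a b ea eb a' b' ega egb := by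
    simp only [Pseudofunctor.LocallyDiscreteOpToCat.pullHom]
    rw [ModPFBridge.mapComp'_hom_app a g ega, ModPFBridge.mapComp'_inv_app b g egb]
    have hq' : a' ≫ h = b' ≫ h := by rw [← ega, ← egb, Category.assoc, Category.assoc, ea, eb]
    exact c.hom_pull g a b (ea.trans eb.symm) a' b' hq' ega egb
  hom_self T q i a ea := c.hom_refl a
  hom_comp T q i₁ i₂ i₃ a b d ea eb ed := c.hom_trans a b d (ea.trans eb.symm) (eb.trans ed.symm)

end Groth.Agent.Desc59.Pic
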